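import Cfsg.Agent.Lib.Recog.EightThree.CentU
import Cfsg.Agent.Lib.Classical.SmallIso
import Cfsg.Agent.S3331

/-!
Owner: helper10. The centraliser of a fixed-point-free involution lies in the embedded `A₈`: modulo the
involution a 3-element is self-centralising.
-/

set_option autoImplicit false
set_option linter.all false
set_option synthInstance.maxSize 1000

namespace CfsgLib.Recog.EightThree

open Subgroup Equiv Cfsg

universe u

/-- The relations excluded in the small quotients. -/
def Rel {K : Type*} [Group K] (y i a : K) : Prop :=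
  y * y * y = 1 ∧ y ≠ 1 ∧ i * y * i⁻¹ = y⁻¹ ∧ a * a = 1 ∧ a * i = i * a ∧
    a * (y * a * y⁻¹) * (y * y * a * (y * y)⁻¹) = 1

theorem rel_S3 : ∀ y : S3, y * y * y = 1 → y ≠ 1 → ∀ i : S3, i * y * i⁻¹ = y⁻¹ → ∀ a : S3, a * a = 1 →
    a * i = i * a → a * (y * a * y⁻¹) * (y * y * a * (y * y)⁻¹) = 1 → a = 1 := by decide +kernel

theorem rel_A5 : ∀ y : S5, Perm.sign y = 1 ∧ y * y * y = 1 ∧ y ≠ 1 → ∀ i : S5, Perm.sign i = 1 →
    i * y * i⁻¹ = y⁻¹ → ∀ a : S5, Perm.sign a = 1 ∧ a * a = 1 →
    a * i = i * a → a * (y * a * y⁻¹) * (y * y * a * (y * y)⁻¹) = 1 → a = 1 := by decide +kernel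

theorem Rel.trivial_S3 {y i a : S3} (h : Rel y i a) : a = 1 := rel_S3 y h.1 h.2.1 i h.2.2.1 a h.2.2.2.1 h.2.2.2.2.1 h.2.2.2.2.2

theorem Rel.trivial_A5 {y i a : alternatingGroup (Fin 5)} (h : Rel y i a) : a = 1 := by
  obtain ⟨h1, h2, h3, h4, h5, h6⟩ := h
  have v := fun {p q : alternatingGroup (Fin 5)} (e : p = q) => congrArg Subtype.val e
  exact Subtype.ext (rel_A5 y ⟨y.2, v h1, fun e => h2 (Subtype.ext e)⟩ i i.2 (v h3) a ⟨a.2, v h4⟩ (v h5) (v h6))

theorem Rel.map {K L : Type*} [Group K] [Group L] (f : K →* L) {y i a : K} (h : Rel y i a) (hy : f y ≠ 1) :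
    Rel (f y) (f i) (f a) := by
  obtain ⟨h1, h2, h3, h4, h5, h6⟩ := h
  refine ⟨?_, hy, ?_, ?_, ?_, ?_⟩
  · rw [← map_mul, ← map_mul, h1, map_one]
  · rw [← map_inv, ← map_mul, ← map_mul, h3, map_inv]
  · rw [← map_mul, h4, map_one]
  · rw [← map_mul, ← map_mul, h5]
  · simp only [← map_inv, ← map_mul]
    rw [h6, map_one]

variable {G : Type u} [Group G] [Finite G] {h : Data G}

namespace Emb

variable (E : Emb h)

/-- The centraliser of `t` is inside. -/
theorem centralizer_t_le {x : G} (hx : Commute x (E.f T8)) : x ∈ E.H := by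
  classical
  haveI := Fact.mk Nat.prime_three
  obtain ⟨s1, -, -, -, s5, s6, -, -, -, -, sA, sI⟩ := signs
  obtain ⟨-, tm, t2, t1, m3⟩ := T8_conj
  obtain ⟨cA, cI, a2, i2, im, ai, aprod, a1, at'⟩ := around_t
  set t := E.f T8 with ht
  set L := centralizer ({t} : Set G) with hL
  have mL : ∀ {y : S8}, Perm.sign y = 1 → y * T8 = T8 * y → E.f y ∈ L := fun hy he =>
    mem_centralizer_singleton_iff.2 (E.f_commute hy s6 he).eq
  have cL : ∀ a : L, Commute (a : G) t := fun a => (mem_centralizer_singleton_iff.1 a.2 :)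
  set tL : L := ⟨t, mL s6 rfl⟩
  set yL : L := ⟨E.f M8, mL s5 tm.symm⟩
  set aL : L := ⟨E.f A8', mL sA cA⟩
  set iL : L := ⟨E.f I8, mL sI cI⟩
  haveI hNn : (zpowers tL).Normal := ⟨fun n hn a => by
    obtain ⟨i, rfl⟩ := mem_zpowers_iff.1 hn
    have : Commute a tL := Subtype.ext (cL a).eq
    rw [(this.zpow_right i).eq, mul_inv_cancel_right]
    exact zpow_mem (mem_zpowers _) i⟩
  set q := QuotientGroup.mk' (zpowers tL)
  have htL : tL * tL = 1 := Subtype.ext (E.f_sq s6 t2)
  have hker : ∀ a : L, q a = 1 → (a : G) = 1 ∨ (a : G) = t := by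
    intro a ha
    obtain ⟨i, rfl⟩ := mem_zpowers_iff.1 ((QuotientGroup.eq_one_iff a).1 ha)
    rcases Int.even_or_odd i with ⟨j, rfl⟩ | ⟨j, rfl⟩
    · left; rw [zpow_add, ← (Commute.refl tL).mul_zpow, htL, one_zpow]; rfl
    · right; rw [two_mul, zpow_add_one, zpow_add, ← (Commute.refl tL).mul_zpow, htL, one_zpow, one_mul]
  have lift : ∀ {a b : S8}, a = b → E.f a = E.f b := fun e => congrArg E.f e
  have sM2 := sgn_mul s5 s5
  have hyval : (E.f M8) * E.f M8 * E.f M8 = 1 := by
    rw [← E.f_mul s5 s5, ← E.f_mul sM2 s5, m3, E.f_one]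
  have hy1 : q yL ≠ 1 := by
    intro e
    rcases hker _ e with r | r
    · exact E.f_ne_one s5 (by decide +kernel) r
    · exact absurd (E.f_inj s5 s6 r) (by decide +kernel)
  have hrel0 : Rel yL iL aL := by
    refine ⟨Subtype.ext hyval, fun e => hy1 (by rw [e, map_one]), Subtype.ext ?_, Subtype.ext (E.f_sq sA a2),
      Subtype.ext (E.f_commute sA sI ai).eq, Subtype.ext ?_⟩
    · show E.f I8 * E.f M8 * (E.f I8)⁻¹ = (E.f M8)⁻¹
      rw [← E.f_conj sI s5, im, E.f_inv s5]
    · show E.f A8' * (E.f M8 * E.f A8' * (E.f M8)⁻¹) * (E.f M8 * E.f M8 * E.f A8' * (E.f M8 * E.f M8)⁻¹) = 1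
      rw [← E.f_conj s5 sA, ← E.f_mul s5 s5, ← E.f_conj sM2 sA, ← E.f_mul sA (sgn_mul (sgn_mul s5 sA) (sgn_inv s5)),
        ← E.f_mul (sgn_mul sA (sgn_mul (sgn_mul s5 sA) (sgn_inv s5))) (sgn_mul (sgn_mul sM2 sA) (sgn_inv sM2)),
        aprod, E.f_one]
  have hrel := hrel0.map q hy1
  have hyord : orderOf (q yL) = 3 := orderOf_eq_prime (by rw [pow_succ, pow_two]; exact hrel.1) hy1
  have hC : centralizer ((zpowers (q yL) : Subgroup _) : Set (L ⧸ zpowers tL)) = zpowers (q yL) := by
    refine le_antisymm (fun a ha => ?_) (fun a ha => mem_centralizer_iff.2 fun b hb => ?_)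
    · obtain ⟨b, rfl⟩ := QuotientGroup.mk'_surjective (zpowers tL) a
      have e : q b * q yL = q yL * q b := ((mem_centralizer_iff.1 ha) _ (mem_zpowers _)).symm
      have e' : q (b * yL * b⁻¹ * yL⁻¹) = 1 := by
        rw [map_mul, map_mul, map_mul, map_inv, map_inv, e, mul_inv_cancel_right, mul_inv_cancel]
      have hby : Commute (b : G) h.m := by
        rw [← E.f_M]
        rcases hker _ e' with r | r
        · exact conj_eq_iff.1 (mul_inv_eq_one.1 r)
        · exfalso
          have r' : (b : G) * E.f M8 * (b : G)⁻¹ = t * E.f M8 := mul_inv_eq_iff_eq_mul.1 r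
          have h3 : ((b : G) * E.f M8 * (b : G)⁻¹) ^ 3 = 1 := by
            rw [conj_pow, pow_succ, pow_two, hyval]; group
          rw [r', (E.f_commute s6 s5 tm).mul_pow, show E.f M8 ^ 3 = 1 by rw [pow_succ, pow_two]; exact hyval,
            mul_one, pow_succ, pow_two, E.f_sq s6 t2, one_mul] at h3
          exact E.f_ne_one s6 t1 h3
      obtain ⟨p, hp, he⟩ := E.exists_of_commute_m hby
      have small : ∀ p ∈ nine, T8 * iota p = iota p * T8 → p = 1 ∨ p = pm ∨ p = pm * pm := by decide +kernel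
      have hsp := Emb.sign_iota_nine hp
      have hmm : ∀ y : S8, y = 1 ∨ y = T8 → ∀ (hy : Perm.sign y = 1), (b : G) = E.f (y * iota p) →
          q b ∈ zpowers (q yL) := by
        intro y hy hsy hb
        have hc : E.f (y * iota p) * E.f T8 = E.f T8 * E.f (y * iota p) := by rw [← hb]; exact (cL b).eq
        have hc' := E.commute_of_f (sgn_mul hsy hsp) s6 hc
        have hTp : T8 * iota p = iota p * T8 := by
          rcases hy with rfl | rfl
          · rw [one_mul] at hc'; exact hc'.symm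
          · rw [mul_assoc] at hc'; exact (mul_left_cancel hc').symm
        have hpc : ∃ k : ℕ, p = pm ^ k := by
          rcases small p hp hTp with rfl | rfl | rfl
          exacts [⟨0, (pow_zero _).symm⟩, ⟨1, (pow_one _).symm⟩, ⟨2, (pow_two _).symm⟩]
        obtain ⟨k, rfl⟩ := hpc
        have hfk : ∀ k : ℕ, E.f (M8 ^ k) = E.f M8 ^ k ∧ Perm.sign (M8 ^ k) = 1 := by
          intro k
          induction k with
          | zero => exact ⟨by rw [pow_zero, pow_zero, E.f_one], by rw [pow_zero, map_one]⟩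
          | succ k ih => exact ⟨by rw [pow_succ, pow_succ, E.f_mul ih.2 s5, ih.1], by rw [pow_succ, map_mul, ih.2, s5, one_mul]⟩
        rw [E.f_mul hsy hsp, map_pow, show iota pm = M8 from rfl, (hfk k).1] at hb
        have hbL : b = (if y = 1 then 1 else tL) * yL ^ k := by
          refine Subtype.ext ?_
          rw [hb]
          rcases hy with rfl | rfl
          · rw [if_pos rfl, E.f_one, one_mul, one_mul, SubmonoidClass.coe_pow]
          · rw [if_neg t1, Subgroup.coe_mul, SubmonoidClass.coe_pow]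
        rw [hbL, map_mul, map_pow]
        have : q (if y = 1 then 1 else tL) = 1 := by
          split
          · exact map_one q
          · exact (QuotientGroup.eq_one_iff _).2 (mem_zpowers _)
        rw [this, one_mul]
        exact pow_mem (mem_zpowers _) _
      rcases he with he | he
      · exact hmm 1 (Or.inl rfl) (map_one _) (by rw [one_mul]; exact he)
      · exact hmm T8 (Or.inr rfl) s6 he
    · obtain ⟨i, rfl⟩ := mem_zpowers_iff.1 ha
      obtain ⟨j, rfl⟩ := mem_zpowers_iff.1 hb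
      exact (Commute.zpow_zpow (Commute.refl _) j i).eq
  have hA : ∀ (N : Subgroup (L ⧸ zpowers tL)) (hN : N.Normal), Group.IsNilpotent N → q aL ∈ N → x ∈ E.H := by
    intro N hN hnil ha
    haveI := hN; haveI := hnil
    set Nt := N.comap q with hNt
    haveI : Nt.Normal := hN.comap q
    let r : Nt →* N := (q.comp Nt.subtype).codRestrict N fun y => y.2
    haveI : Group.IsNilpotent Nt := Subgroup.isNilpotent_of_ker_le_center r fun y hy => by
      rw [mem_center_iff]
      intro w
      have hq : q (y : L) = 1 := congrArg Subtype.val (MonoidHom.mem_ker.1 hy)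
      apply Subtype.ext; apply Subtype.ext
      show ((w : L) : G) * ((y : L) : G) = ((y : L) : G) * ((w : L) : G)
      rcases hker _ hq with e | e <;> rw [e]
      · rw [mul_one, one_mul]
      · exact (cL _).eq
    have haN : aL ∈ Nt := ha
    obtain ⟨k, hk, hke⟩ := E.conj_of_UT sA UT_U8.2.2.2.1
    have hpull : ∀ g : G, g * E.f A8' * g⁻¹ ∈ E.H → g ∈ E.H := by
      intro g hg
      have := E.pull (fun y hy => E.centralizer_u_le hy) (g := g * k) (by
        rw [show g * k * E.f U8 * (g * k)⁻¹ = g * (k * E.f U8 * k⁻¹) * g⁻¹ by group, hke]; exact hg)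
      have := mul_mem this (inv_mem hk)
      rwa [mul_inv_cancel_right] at this
    set S := (E.H.subgroupOf L).subgroupOf Nt with hS
    have hmemS : ∀ y : Nt, y ∈ S ↔ ((y : L) : G) ∈ E.H := fun y => Iff.rfl
    have hStop : S = ⊤ := by
      by_contra hne
      obtain ⟨g, hgN, hgS⟩ := Set.exists_of_ssubset (Group.normalizerCondition_of_isNilpotent (G := Nt) S
        (lt_top_iff_ne_top.2 hne))
      refine hgS ((hmemS g).2 (hpull _ ?_))
      exact (hmemS _).1 ((mem_normalizer_iff.1 hgN ⟨aL, haN⟩).1 ((hmemS _).2 (E.f_mem A8')))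
    set g : L := ⟨x, mem_centralizer_singleton_iff.2 hx.eq⟩
    have hmem : (⟨g * aL * g⁻¹, (inferInstance : Nt.Normal).conj_mem _ haN g⟩ : Nt) ∈ S := hStop ▸ mem_top _
    exact hpull x ((hmemS _).1 hmem)
  have notmem : ∀ {N : Subgroup (L ⧸ zpowers tL)}, (Nat.card N).Coprime 3 → q yL ∉ N := fun hcop hm =>
    absurd (hyord ▸ Subgroup.orderOf_dvd_natCard _ hm) ((Nat.prime_three.coprime_iff_not_dvd).1 hcop.symm)
  rcases Cfsg.Agent.S3331.result (zpowers (q yL)) (by rw [Nat.card_zpowers, hyord]) hC with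
    ⟨N, hN, hnil, hcop, hquo⟩ | ⟨N, hN, hcomm, hexp, ⟨e5⟩⟩ | ⟨e7⟩
  · haveI := hN
    set p := QuotientGroup.mk' N
    have hy' : p (q yL) ≠ 1 := fun e => notmem hcop ((QuotientGroup.eq_one_iff _).1 e)
    have hr := hrel.map p hy'
    refine hA N hN hnil ((QuotientGroup.eq_one_iff _).1 (?_ : p (q aL) = 1))
    rcases hquo with h3 | ⟨e⟩
    · have d3 : orderOf (p (q aL)) ∣ 3 := by
        have := orderOf_dvd_natCard (p (q aL))
        rwa [h3] at this
      have d2 : orderOf (p (q aL)) ∣ 2 := orderOf_dvd_of_pow_eq_one (by rw [pow_two]; exact hr.2.2.2.1)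
      exact orderOf_eq_one_iff.1 (Nat.dvd_one.1 (by simpa using Nat.dvd_gcd d3 d2))
    · obtain ⟨e⟩ := e
      exact e.map_eq_one_iff.1 (hr.map e.toMonoidHom (fun e' => hy' (e.map_eq_one_iff.1 e'))).trivial_S3
  · haveI := hN; haveI := hcomm
    haveI := Fact.mk Nat.prime_two
    have hp2 : IsPGroup 2 N := fun n => ⟨1, Subtype.ext (by rw [pow_one, SubmonoidClass.coe_pow]; exact hexp n n.2)⟩
    have hcop : (Nat.card N).Coprime 3 := by
      obtain ⟨k, hk⟩ := hp2.exists_card_eq
      rw [hk]; exact Nat.Coprime.pow_left _ (by norm_num)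
    set p := QuotientGroup.mk' N
    have hy' : p (q yL) ≠ 1 := fun e => notmem hcop ((QuotientGroup.eq_one_iff _).1 e)
    have hr := hrel.map p hy'
    refine hA N hN hp2.isNilpotent ((QuotientGroup.eq_one_iff _).1 (?_ : p (q aL) = 1))
    exact e5.map_eq_one_iff.1 (hr.map e5.toMonoidHom (fun e' => hy' (e5.map_eq_one_iff.1 e'))).trivial_A5
  · exfalso
    obtain ⟨e7⟩ := e7
    haveI : Fact (Nat.Prime 7) := ⟨by norm_num⟩
    have h168 : Nat.card (Matrix.ProjectiveSpecialLinearGroup (Fin 2) (ZMod 7)) = 168 := by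
      have := CfsgLib.Classical.Two.card_PSL_two (F := ZMod 7)
      rw [ZMod.card, show Nat.gcd 2 (7 - 1) = 2 from rfl] at this
      omega
    have hTL : ∀ b, p32 b * T8 = T8 * p32 b := fun b => code_injective (p32_comm b)
    let S32 : Finset G := Finset.univ.image fun b => E.f (p32 b)
    have hS32 : S32.card = 32 := by
      rw [Finset.card_image_of_injective _ fun a b e => ?_, Finset.card_univ, Fintype.card_fin]
      have e' := congrArg code (E.f_inj (sign_p32 a) (sign_p32 b) e)
      exact List.inj_on_of_nodup_map p32_code (List.mem_finRange a) (List.mem_finRange b) e'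
    have hmul : ∀ a ∈ S32, ∀ b ∈ S32, a * b ∈ S32 := by
      intro a ha b hb
      obtain ⟨a, -, rfl⟩ := Finset.mem_image.1 ha
      obtain ⟨b, -, rfl⟩ := Finset.mem_image.1 hb
      obtain ⟨c, -, hc⟩ := List.mem_map.1 (p32_mul_code a b)
      refine Finset.mem_image.2 ⟨c, Finset.mem_univ _, ?_⟩
      rw [← E.f_mul (sign_p32 a) (sign_p32 b)]
      exact congrArg E.f (code_injective hc)
    have hone : (1 : G) ∈ S32 := Finset.mem_image.2 ⟨0, Finset.mem_univ _, by
      rw [show p32 0 = 1 by decide +kernel, E.f_one]⟩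
    let T : Subgroup G :=
      { carrier := ↑S32
        one_mem' := hone
        mul_mem' := fun ha hb => hmul _ ha _ hb
        inv_mem' := fun {a} ha => by
          have hpow : ∀ n : ℕ, a ^ n ∈ S32 := fun n => by
            induction n with
            | zero => rw [pow_zero]; exact hone
            | succ n ih => rw [pow_succ]; exact hmul _ ih _ ha
          rw [show a⁻¹ = a ^ (orderOf a - 1) from (inv_eq_of_mul_eq_one_left (by
            rw [← pow_succ, Nat.sub_add_cancel (orderOf_pos a), pow_orderOf_eq_one]))]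
          exact hpow _ }
    have hTle : T ≤ L := by
      intro a ha
      obtain ⟨b, -, rfl⟩ := Finset.mem_image.1 (show a ∈ S32 from ha)
      exact mL (sign_p32 b) (hTL b)
    have hTc : Nat.card T = 32 := by
      rw [← SetLike.coe_sort_coe, show (T : Set G) = ↑S32 from rfl, Nat.card_coe_set_eq, Set.ncard_coe_finset, hS32]
    have h1 : 32 ∣ Nat.card L := hTc ▸ card_dvd_of_le hTle
    have h2 := (zpowers tL).card_mul_index
    rw [Nat.card_zpowers, index_eq_card, Nat.card_congr e7.toEquiv, h168,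
      show orderOf tL = 2 from orderOf_eq_prime (by rw [pow_two]; exact htL)
        (fun e => E.f_ne_one s6 t1 (congrArg Subtype.val e))] at h2
    rw [← h2] at h1
    norm_num at h1

end Emb

end CfsgLib.Recog.EightThree
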