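import Cfsg.Agent.Lib.Recog.EightThree.Close
import Cfsg.Agent.Lib.ZStar.Main

/-!
Owner: helper10. The centraliser of an involution with four fixed points lies in the embedded `A₈`:
in the quotient by the involution the other involution of the four group is isolated, and the odd core is
trivial because it admits fixed-point-free automorphisms generating an alternating group of degree four.
-/

set_option autoImplicit false
set_option linter.all false

namespace CfsgLib.Recog.EightThree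

open Subgroup Equiv Cfsg
open scoped Pointwise

universe u

variable {G : Type u} [Group G] [Finite G] {h : Data G}

/-- A fixed-point-free involution on a finite group inverts it. -/
theorem inverts_of_fpf {N : Subgroup G} {v : G} (hv : v * v = 1) (hN : ∀ a ∈ N, v * a * v ∈ N)
    (hfree : ∀ a ∈ N, v * a * v = a → a = 1) : ∀ a ∈ N, v * a * v = a⁻¹ := by
  let F : N → N := fun o => ⟨(o : G)⁻¹ * (v * o * v), mul_mem (inv_mem o.2) (hN o o.2)⟩
  have hinj : Function.Injective F := by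
    intro a b e
    have e' : (a : G)⁻¹ * (v * a * v) = (b : G)⁻¹ * (v * b * v) := congrArg Subtype.val e
    have h1 : v * ((b : G) * (a : G)⁻¹) * v = (b : G) * (a : G)⁻¹ := by
      have e2 : v * a * v = (a : G) * ((b : G)⁻¹ * (v * b * v)) := by rw [← e']; group
      have hvi : v⁻¹ = v := inv_eq_of_mul_eq_one_left hv
      calc v * ((b : G) * (a : G)⁻¹) * v = v * b * (v * v) * (a : G)⁻¹ * v := by rw [hv]; group
        _ = (v * b * v) * (v⁻¹ * a * v⁻¹)⁻¹ := by group
        _ = (v * b * v) * (v * a * v)⁻¹ := by rw [hvi]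
        _ = (b : G) * (a : G)⁻¹ := by rw [e2]; group
    have := hfree _ (mul_mem b.2 (inv_mem a.2)) h1
    exact (Subtype.ext (mul_inv_eq_one.1 this)).symm
  intro a ha
  obtain ⟨o, ho⟩ := (Finite.injective_iff_surjective.1 hinj) ⟨a, ha⟩
  have e : a = (o : G)⁻¹ * (v * o * v) := (congrArg Subtype.val ho).symm
  calc v * a * v = v * (o : G)⁻¹ * v * o * (v * v) := by rw [e]; group
    _ = v * (o : G)⁻¹ * v * o := by rw [hv, mul_one]
    _ = v⁻¹ * (o : G)⁻¹ * v⁻¹ * o := by rw [inv_eq_of_mul_eq_one_left hv]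
    _ = a⁻¹ := by rw [e]; group

namespace Emb

variable (E : Emb h)

theorem mem_of_stab {x : G} (hu : Commute x (E.f U8))
    (hv : x * E.f V8 * x⁻¹ = E.f V8 ∨ x * E.f V8 * x⁻¹ = E.f U8 * E.f V8) : x ∈ E.H := by
  obtain ⟨s1, s2, -, -, -, -, s7, -⟩ := signs
  obtain ⟨u2, -, -, uv, nu, nv, n2, -⟩ := around_u
  rcases hv with e | e
  · refine E.CV_le (h.mem_CV.2 ⟨E.f_U ▸ hu, E.f_V ▸ (conj_eq_iff.1 e : Commute x (E.f V8))⟩)
  · set n := E.f N8
    have hn2 : n * n = 1 := E.f_sq s7 n2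
    have hnu : Commute n (E.f U8) := E.f_commute s7 s1 nu
    have hnv : n * E.f V8 * n⁻¹ = E.f U8 * E.f V8 := by rw [← E.f_conj s7 s2, nv, E.f_mul s1 s2]
    have hback : n * (E.f U8 * E.f V8) * n⁻¹ = E.f V8 := by
      rw [← hnv, show n * (n * E.f V8 * n⁻¹) * n⁻¹ = (n * n) * E.f V8 * (n * n)⁻¹ by group, hn2, inv_one, mul_one, one_mul]
    have hmem : n * x ∈ h.CV := by
      refine h.mem_CV.2 ⟨E.f_U ▸ hnu.mul_left hu, E.f_V ▸ (conj_eq_iff.1 ?_ : Commute (n * x) (E.f V8))⟩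
      rw [show n * x * E.f V8 * (n * x)⁻¹ = n * (x * E.f V8 * x⁻¹) * n⁻¹ by group, e, hback]
    have := mul_mem (inv_mem (E.f_mem N8)) (E.CV_le hmem)
    rwa [inv_mul_cancel_left] at this

/-- The conjugates of `v` in `C(u)` normalising the four group lie in it. -/
theorem isolated_key {g : G} (hgu : Commute g (E.f U8))
    (hw : g * E.f V8 * g⁻¹ * E.f V8 * (g * E.f V8 * g⁻¹)⁻¹ = E.f V8 ∨
      g * E.f V8 * g⁻¹ * E.f V8 * (g * E.f V8 * g⁻¹)⁻¹ = E.f U8 * E.f V8) :
    g * E.f V8 * g⁻¹ = E.f V8 ∨ g * E.f V8 * g⁻¹ = E.f U8 * E.f V8 := by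
  obtain ⟨s1, s2, -⟩ := signs
  obtain ⟨u2, v2, u1, uv, -⟩ := around_u
  obtain ⟨UU, UV, UUV, -⟩ := UT_U8
  set u := E.f U8
  set v := E.f V8
  have hcuv : Commute u v := E.f_commute s1 s2 uv
  have hgv : Commute (g * v * g⁻¹) u := by
    have := hcuv.symm.map (MulAut.conj g).toMonoidHom
    simp only [MulEquiv.coe_toMonoidHom, MulAut.conj_apply] at this
    rwa [hgu.eq, mul_inv_cancel_right] at this
  obtain ⟨w8, hw8, hwe⟩ := E.exists_f (E.mem_of_stab hgv hw)
  obtain ⟨k, -, hk⟩ := E.conj_of_UT s2 UV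
  obtain ⟨k', -, hk'⟩ := E.conj_of_UT (sgn_mul s1 s2) UUV
  have hUw : UT w8 := E.UT_of_conj hw8 (g * k) (by
    rw [hwe, show g * k * u * (g * k)⁻¹ = g * (k * u * k⁻¹) * g⁻¹ by group, hk])
  have hUuw : UT (U8 * w8) := E.UT_of_conj (sgn_mul s1 hw8) (g * k') (by
    rw [E.f_mul s1 hw8, hwe, show g * k' * u * (g * k')⁻¹ = g * (k' * u * k'⁻¹) * g⁻¹ by group, hk',
      E.f_mul s1 s2]
    calc g * (u * v) * g⁻¹ = (g * u * g⁻¹) * (g * v * g⁻¹) := by group
      _ = u * (g * v * g⁻¹) := by rw [hgu.eq, mul_inv_cancel_right])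
  have hwu : w8 * U8 = U8 * w8 := E.commute_of_f hw8 s1 (by rw [hwe]; exact hgv)
  rcases four_transpositions hUw hwu hUuw with e | e | ⟨c, hc, cU, ccu, ccw, cne, cwU, cuN⟩
  · exact Or.inl (by rw [← hwe, e])
  · exact Or.inr (by rw [← hwe, e, E.f_mul s1 s2])
  exfalso
  have hgi : Commute g⁻¹ u := hgu.inv_left
  have h1 : Commute (g⁻¹ * E.f c * g) u := (hgi.mul_left (E.f_commute hc s1 ccu)).mul_left hgu
  have h2 : Commute (g⁻¹ * E.f c * g) v := by
    have h0 : Commute (E.f c) (g * v * g⁻¹) := hwe ▸ E.f_commute hc hw8 ccw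
    show _ = _
    calc (g⁻¹ * E.f c * g) * v = g⁻¹ * (E.f c * (g * v * g⁻¹)) * g := by group
      _ = g⁻¹ * ((g * v * g⁻¹) * E.f c) * g := by rw [h0.eq]
      _ = v * (g⁻¹ * E.f c * g) := by group
  obtain ⟨c', hc', hce⟩ := E.exists_f (E.CV_le ((h.mem_CV (x := g⁻¹ * E.f c * g)).2 ⟨E.f_U ▸ h1, E.f_V ▸ h2⟩))
  obtain ⟨k1, -, hk1⟩ := E.conj_of_UT hc cU
  obtain ⟨k2, -, hk2⟩ := E.conj_of_UT (sgn_mul hc hw8) cwU
  have a1 : UT c' := E.UT_of_conj hc' (g⁻¹ * k1) (by
    rw [hce, show g⁻¹ * k1 * u * (g⁻¹ * k1)⁻¹ = g⁻¹ * (k1 * u * k1⁻¹) * g by group, hk1])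
  have a4 : UT (c' * V8) := E.UT_of_conj (sgn_mul hc' s2) (g⁻¹ * k2) (by
    rw [E.f_mul hc' s2, hce, show g⁻¹ * k2 * u * (g⁻¹ * k2)⁻¹ = g⁻¹ * (k2 * u * k2⁻¹) * g by group, hk2,
      E.f_mul hc hw8, hwe, show E.f V8 = v from rfl]
    group)
  have a3 : c' ≠ U8 := by
    intro e
    apply cne
    apply E.f_inj hc s1
    rw [e] at hce
    calc E.f c = g * (g⁻¹ * E.f c * g) * g⁻¹ := by group
      _ = u := by rw [← hce, hgu.eq, mul_inv_cancel_right]
  have a5 := no_four_transpositions a1 (E.commute_of_f hc' s1 (hce ▸ h1)) (E.commute_of_f hc' s2 (hce ▸ h2)) a3 a4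
  obtain ⟨k3, -, hk3⟩ := E.conj_of_UT (sgn_mul hc' s1) a5
  refine cuN (E.UT_of_conj (sgn_mul hc s1) (g * k3) ?_)
  rw [show g * k3 * u * (g * k3)⁻¹ = g * (k3 * u * k3⁻¹) * g⁻¹ by group, hk3, E.f_mul hc' s1, hce, E.f_mul hc s1]
  calc g * (g⁻¹ * E.f c * g * u) * g⁻¹ = E.f c * (g * u * g⁻¹) := by group
    _ = E.f c * u := by rw [hgu.eq, mul_inv_cancel_right]

/-- The centraliser of `u` is inside. -/
theorem centralizer_u_le {x : G} (hx : Commute x (E.f U8)) : x ∈ E.H := by
  classical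
  obtain ⟨s1, s2, s3, -, -, -, -, se1, se2, sk, -⟩ := signs
  obtain ⟨u2, v2, u1, uv, -, -, -, zu, zv, e1u, e2u, e1v, e2v⟩ := around_u
  obtain ⟨q1, q2, q12, qc2, qc1, qm1, qm2, qne, qk1, qk2, qk3, qk4⟩ := four_prime
  set u := E.f U8 with hu
  set v := E.f V8 with hv
  set M := centralizer ({u} : Set G) with hMdef
  have mM : ∀ {a : G}, Commute a u → a ∈ M := fun ha => mem_centralizer_singleton_iff.2 ha.eq
  have cM : ∀ a : M, Commute (a : G) u := fun a => (mem_centralizer_singleton_iff.1 a.2 :)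
  have hcu : ∀ {y : S8}, Perm.sign y = 1 → y * U8 = U8 * y → Commute (E.f y) u := fun hy he => E.f_commute hy s1 he
  set uM : M := ⟨u, mM (Commute.refl u)⟩
  set vM : M := ⟨v, mM (hcu s2 uv.symm)⟩
  set zM : M := ⟨E.f Z8, mM (hcu s3 zu)⟩
  set e1M : M := ⟨E.f E1, mM (hcu se1 e1u)⟩
  set e2M : M := ⟨E.f E2, mM (hcu se2 e2u)⟩
  haveI hNn : (zpowers uM).Normal := ⟨fun n hn a => by
    obtain ⟨i, rfl⟩ := mem_zpowers_iff.1 hn
    have : Commute a uM := Subtype.ext (cM a).eq
    rw [(this.zpow_right i).eq, mul_inv_cancel_right]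
    exact zpow_mem (mem_zpowers _) i⟩
  set q := QuotientGroup.mk' (zpowers uM)
  have huM : uM * uM = 1 := Subtype.ext (E.f_sq s1 u2)
  have hker : ∀ a : M, q a = 1 → (a : G) = 1 ∨ (a : G) = u := by
    intro a ha
    obtain ⟨i, rfl⟩ := mem_zpowers_iff.1 ((QuotientGroup.eq_one_iff a).1 ha)
    rcases Int.even_or_odd i with ⟨j, rfl⟩ | ⟨j, rfl⟩
    · left
      rw [zpow_add, ← (Commute.refl uM).mul_zpow, huM, one_zpow]; rfl
    · right
      rw [two_mul, zpow_add_one, zpow_add, ← (Commute.refl uM).mul_zpow, huM, one_zpow, one_mul]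
  have hqu : q uM = 1 := (QuotientGroup.eq_one_iff _).2 (mem_zpowers _)
  have hcomm : ∀ a b : M, q a * q b = q b * q a →
      (a : G) * b * (a : G)⁻¹ = b ∨ (a : G) * b * (a : G)⁻¹ = u * b := by
    intro a b e
    have e' : q (a * b * a⁻¹ * b⁻¹) = 1 := by
      rw [map_mul, map_mul, map_mul, map_inv, map_inv, e, mul_inv_cancel_right, mul_inv_cancel]
    rcases hker _ e' with r | r
    · exact Or.inl (mul_inv_eq_one.1 r)
    · exact Or.inr (mul_inv_eq_iff_eq_mul.1 r)
  have hv1 : q vM ≠ 1 := by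
    intro e
    rcases hker _ e with r | r
    · exact E.f_ne_one s2 (fun e => absurd e (by decide +kernel)) r
    · exact absurd (E.f_inj s2 s1 r) (by decide +kernel)
  have hvord : orderOf (q vM) = 2 := orderOf_eq_prime (by
    rw [pow_two, ← map_mul, show vM * vM = 1 from Subtype.ext (E.f_sq s2 v2), map_one]) hv1
  have hiso : IsIsolatedInvolution (q vM) := by
    refine ⟨hvord, fun gq hcom => ?_⟩
    obtain ⟨g, rfl⟩ := QuotientGroup.mk'_surjective (zpowers uM) gq
    have h1 : q vM * q (g * vM * g⁻¹) = q (g * vM * g⁻¹) * q vM := by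
      rw [map_mul, map_mul, map_inv]; exact hcom.eq
    have hst := hcomm (g * vM * g⁻¹) vM h1.symm
    rcases E.isolated_key (g := (g : G)) (cM g) hst with r | r
    · rw [← map_inv, ← map_mul, ← map_mul]
      exact congrArg q (Subtype.ext r)
    · rw [← map_inv, ← map_mul, ← map_mul, show g * vM * g⁻¹ = uM * vM from Subtype.ext r, map_mul, hqu, one_mul]
  set O := oddCore (M ⧸ zpowers uM) with hO
  haveI hOn : O.Normal := inferInstance
  have hOodd : Odd (Nat.card O) := CfsgLib.ZStar.odd_card_oddCore _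
  have hoddel : ∀ a ∈ O, Odd (orderOf a) := fun a ha => hOodd.of_dvd_nat (Subgroup.orderOf_dvd_natCard _ ha)
  haveI := Fact.mk Nat.prime_three
  have hzord : orderOf (q zM) = 3 := by
    refine orderOf_eq_prime ?_ fun e => ?_
    · rw [pow_succ, pow_two, ← map_mul, ← map_mul, show zM * zM * zM = 1 from Subtype.ext
        (show E.f Z8 * E.f Z8 * E.f Z8 = 1 by rw [E.f_Z]; exact h.z_pow_three), map_one]
    · rcases hker _ e with r | r
      · exact E.f_ne_one s3 (fun e => absurd e (by decide +kernel)) r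
      · exact absurd (E.f_inj s3 s1 r) (by decide +kernel)
  have hzO : q zM ∉ O := by
    intro hz
    set y := zM * e1M * zM⁻¹ * e1M with hy
    have he1i : e1M⁻¹ = e1M := inv_eq_of_mul_eq_one_left (Subtype.ext (E.f_sq se1 q1))
    have hyO : q y ∈ O := by
      have e : q y = q zM * (q e1M * (q zM)⁻¹ * (q e1M)⁻¹) := by
        rw [← map_inv, ← map_inv, he1i, ← map_mul, ← map_mul, ← map_mul, hy]
        exact congrArg q (by group)
      rw [e]
      exact mul_mem hz (hOn.conj_mem _ (inv_mem hz) _)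
    have hsy : Perm.sign (Z8 * E1 * Z8⁻¹ * E1) = 1 := sgn_mul (sgn_mul (sgn_mul s3 se1) (sgn_inv s3)) se1
    have hyv : (y : G) = E.f (Z8 * E1 * Z8⁻¹ * E1) := by
      rw [E.f_mul (sgn_mul (sgn_mul s3 se1) (sgn_inv s3)) se1, E.f_conj s3 se1]; rfl
    have hy2 : y * y = 1 := Subtype.ext (by
      show (y : G) * y = 1
      rw [hyv]; exact E.f_sq hsy qc2)
    have hq1' : q y = 1 := CfsgLib.ZStar.eq_one_of_odd_of_sq (hoddel _ hyO) (by rw [pow_two, ← map_mul, hy2, map_one])
    rcases hker _ hq1' with r | r <;> rw [hyv] at r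
    · exact E.f_ne_one hsy qc1 r
    · exact absurd (E.f_inj hsy s1 r) (by decide +kernel)
  have h3O : ¬ 3 ∣ Nat.card O := by
    intro h3
    obtain ⟨⟨a, ha⟩, hoa⟩ := exists_prime_orderOf_dvd_card' (G := O) 3 h3
    replace hoa : orderOf a = 3 := by simpa [← Subgroup.orderOf_coe] using hoa
    let Q := M ⧸ zpowers uM
    have hne : Nat.card Q ≠ 0 := Nat.card_pos.ne'
    have hfac : (Nat.card Q).factorization 3 = 1 := by
      have h3 : 3 ^ 1 ∣ Nat.card Q := by rw [pow_one, ← hzord]; exact orderOf_dvd_natCard _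
      have a1 := (Nat.prime_three.pow_dvd_iff_le_factorization hne).1 h3
      by_contra hb
      have h9 := (Nat.prime_three.pow_dvd_iff_le_factorization (k := 2) hne).2 (by omega)
      exact h.not_nine_dvd (x := u) (E.f_sq s1 u2) (E.f_ne_one s1 u1)
        (h9.trans ((zpowers uM).card_quotient_dvd_card))
    obtain ⟨c, hc⟩ := MulAction.exists_smul_eq Q
      (Sylow.ofCard (zpowers a) (by rw [Nat.card_zpowers, hoa, hfac, pow_one]))
      (Sylow.ofCard (zpowers (q zM)) (by rw [Nat.card_zpowers, hzord, hfac, pow_one]))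
    have hmem : q zM ∈ MulAut.conj c • zpowers a := by
      rw [show MulAut.conj c • zpowers a = zpowers (q zM) from congrArg Sylow.toSubgroup hc]
      exact mem_zpowers _
    obtain ⟨b, hb, hbe⟩ := hmem
    refine hzO ?_
    rw [← hbe]
    obtain ⟨i, rfl⟩ := mem_zpowers_iff.1 hb
    exact hOn.conj_mem _ (zpow_mem ha i) c
  have hlift : ∀ a ∈ O, ∃ b : M, q b = a ∧ Odd (orderOf (b : G)) ∧ ¬ 3 ∣ orderOf (b : G) ∧
      ∀ y : M, a * q y = q y * a → Commute (b : G) (y : G) := by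
    intro a ha
    obtain ⟨b0, rfl⟩ := QuotientGroup.mk'_surjective (zpowers uM) a
    set d := orderOf (q b0) with hd
    have hdo : Odd d := hoddel _ ha
    have hd3 : ¬ 3 ∣ d := fun e => h3O (e.trans (Subgroup.orderOf_dvd_natCard _ ha))
    have h0 : q (b0 ^ d) = 1 := by rw [map_pow, pow_orderOf_eq_one]
    have main : ∀ b : M, q b = q b0 → (b : G) ^ d = 1 → ∃ b : M, q b = q b0 ∧ Odd (orderOf (b : G)) ∧
        ¬ 3 ∣ orderOf (b : G) ∧ ∀ y : M, q b0 * q y = q y * q b0 → Commute (b : G) (y : G) := by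
      intro b hb hbd
      have hdvd := orderOf_dvd_of_pow_eq_one hbd
      refine ⟨b, hb, hdo.of_dvd_nat hdvd, fun e => hd3 (e.trans hdvd), fun y hy => ?_⟩
      rw [← hb] at hy
      rcases hcomm y b hy.symm with r | r
      · exact (conj_eq_iff.1 r).symm
      · exfalso
        have h1 : ((y : G) * b * (y : G)⁻¹) ^ d = 1 := by rw [conj_pow, hbd]; group
        rw [r, (cM b).symm.mul_pow, hbd, mul_one] at h1
        obtain ⟨j, hj⟩ := hdo
        rw [hj, pow_succ, pow_mul, pow_two, E.f_sq s1 u2, one_pow, one_mul] at h1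
        exact E.f_ne_one s1 u1 h1
    rcases hker _ h0 with r | r
    · exact main b0 rfl r
    · refine main (b0 * uM) (by rw [map_mul, hqu, mul_one]) ?_
      show ((b0 : G) * u) ^ d = 1
      rw [(cM b0).mul_pow]
      obtain ⟨j, hj⟩ := hdo
      rw [show (b0 : G) ^ d = u from r, hj, pow_succ u, pow_mul u, pow_two, E.f_sq s1 u2, one_pow, one_mul, E.f_sq s1 u2]
  -- a core element with a representative inside is trivial
  have hinside : ∀ a ∈ O, ∀ b : M, q b = a → Odd (orderOf (b : G)) → ¬ 3 ∣ orderOf (b : G) → (b : G) ∈ E.H → a = 1 := by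
    intro a ha b hb hodd h3 hbH
    obtain ⟨y, hy, hye⟩ := E.exists_f hbH
    have hcy : y * U8 = U8 * y := E.commute_of_f hy s1 (by rw [hye]; exact cM b)
    have h12 : (b : G) ^ 12 = 1 := by
      rw [← hye, E.f_apply hy, ← map_pow]
      refine (congrArg E.ψ (Subtype.ext ?_)).trans (map_one E.ψ)
      simpa using pow_twelve hcy
    have hd := orderOf_dvd_of_pow_eq_one h12
    have hone : orderOf (b : G) = 1 := by
      have h2' : ¬ 2 ∣ orderOf (b : G) := fun e => by
        obtain ⟨c, hc⟩ := e; obtain ⟨j, hj⟩ := hodd; omega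
      have hle := Nat.le_of_dvd (by norm_num) hd
      interval_cases hk : orderOf (b : G) <;> omega
    rw [← hb, show b = 1 from Subtype.ext (orderOf_eq_one_iff.1 hone), map_one]
  have hfix : ∀ a ∈ O, (∀ b : M, (∀ y : M, a * q y = q y * a → Commute (b : G) (y : G)) → (b : G) ∈ E.H) → a = 1 := by
    intro a ha hmem
    obtain ⟨b, hb, hodd, h3, hc⟩ := hlift a ha
    exact hinside a ha b hb hodd h3 (hmem b hc)
  have fz : ∀ a ∈ O, a * q zM = q zM * a → a = 1 := fun a ha hc => hfix a ha fun b hb =>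
    E.mem_of_commute_z (by have := hb zM hc; rwa [show (zM : G) = h.z from E.f_Z] at this)
  have fv : ∀ a ∈ O, a * q vM = q vM * a → a = 1 := fun a ha hc => hfix a ha fun b hb =>
    E.CV_le (h.mem_CV.2 ⟨E.f_U ▸ cM b, E.f_V ▸ hb vM hc⟩)
  have fE : ∀ a ∈ O, a * q e1M = q e1M * a → a * q e2M = q e2M * a → a = 1 := by
    intro a ha c1 c2
    refine hfix a ha fun b hb => ?_
    have hb1 : Commute (b : G) (E.f E1) := hb e1M c1
    have hb2 : Commute (b : G) (E.f E2) := hb e2M c2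
    have hmem : ∀ y ∈ [E1, E2, E1 * E2], Commute (b : G) (E.f y) := by
      intro y hy
      simp only [List.mem_cons, List.not_mem_nil, or_false] at hy
      rcases hy with rfl | rfl | rfl
      exacts [hb1, hb2, by rw [E.f_mul se1 se2]; exact hb1.mul_right hb2]
    have pull' : ∀ y, Perm.sign y = 1 → K8 * y * K8⁻¹ ∈ [E1, E2, E1 * E2] →
        Commute ((E.f K8)⁻¹ * b * E.f K8) (E.f y) := by
      intro y hy hm
      have h0 := hmem _ hm
      rw [E.f_conj sk hy] at h0
      show _ = _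
      calc (E.f K8)⁻¹ * b * E.f K8 * E.f y = (E.f K8)⁻¹ * (b * (E.f K8 * E.f y * (E.f K8)⁻¹)) * E.f K8 := by group
        _ = (E.f K8)⁻¹ * ((E.f K8 * E.f y * (E.f K8)⁻¹) * b) * E.f K8 := by rw [h0.eq]
        _ = E.f y * ((E.f K8)⁻¹ * b * E.f K8) := by group
    have := mul_mem (mul_mem (E.f_mem K8)
      (E.CV_le (h.mem_CV.2 ⟨E.f_U ▸ pull' U8 s1 qk3, E.f_V ▸ pull' V8 s2 qk4⟩))) (inv_mem (E.f_mem K8))
    rwa [show E.f K8 * ((E.f K8)⁻¹ * b * E.f K8) * (E.f K8)⁻¹ = (b : G) by group] at this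
  -- structure of the core
  have conjO : ∀ (y : M ⧸ zpowers uM), y * y = 1 → ∀ a ∈ O, y * a * y ∈ O := fun y hy a ha => by
    have := hOn.conj_mem a ha y
    rwa [inv_eq_of_mul_eq_one_left hy] at this
  have vv : q vM * q vM = 1 := by rw [← pow_two, ← hvord, pow_orderOf_eq_one]
  have hinvv : ∀ a ∈ O, q vM * a * q vM = a⁻¹ := inverts_of_fpf vv (conjO _ vv) fun a ha e => fv a ha (by
    calc a * q vM = (q vM * a * q vM) * q vM := by rw [e]
      _ = q vM * a := by rw [mul_assoc, vv, mul_one])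
  have hab : ∀ a ∈ O, ∀ b ∈ O, a * b = b * a := by
    intro a ha b hb
    have h1 := hinvv _ (mul_mem ha hb)
    have h2 : q vM * (a * b) * q vM = (q vM * a * q vM) * (q vM * b * q vM) := by
      calc q vM * (a * b) * q vM = q vM * a * (q vM * q vM) * b * q vM := by rw [show q vM * q vM = 1 from vv]; group
        _ = _ := by group
    rw [h2, hinvv a ha, hinvv b hb] at h1
    have h3 := congrArg (·⁻¹) h1
    simp only [mul_inv_rev, inv_inv] at h3
    exact h3.symm
  set Z := q zM with hZ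
  set A1 := q e1M with hA1
  set A2 := q e2M with hA2
  have Z3 : Z * Z * Z = 1 := by
    rw [show Z * Z * Z = Z ^ 3 by rw [pow_succ, pow_two], ← hzord, pow_orderOf_eq_one]
  have a11 : A1 * A1 = 1 := by rw [hA1, ← map_mul, show e1M * e1M = 1 from Subtype.ext (E.f_sq se1 q1), map_one]
  have a22 : A2 * A2 = 1 := by rw [hA2, ← map_mul, show e2M * e2M = 1 from Subtype.ext (E.f_sq se2 q2), map_one]
  have a12 : A1 * A2 = A2 * A1 := by
    rw [hA1, hA2, ← map_mul, ← map_mul]
    exact congrArg q (Subtype.ext (E.f_commute se1 se2 q12).eq)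
  have hB : ∀ (P : S8), Perm.sign P = 1 → P * E1 * P⁻¹ ∈ [E2, E1 * E2] →
      ∀ (PM : M), (PM : G) = E.f P → q PM * A1 * (q PM)⁻¹ = A2 ∨ q PM * A1 * (q PM)⁻¹ = A1 * A2 := by
    intro P hP hm PM hPM
    simp only [List.mem_cons, List.not_mem_nil, or_false] at hm
    rw [hA1, ← map_inv, ← map_mul, ← map_mul]
    rcases hm with e | e
    · refine Or.inl (congrArg q (Subtype.ext ?_))
      show (PM : G) * E.f E1 * (PM : G)⁻¹ = E.f E2
      rw [hPM, ← E.f_conj hP se1, e]
    · refine Or.inr ?_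
      rw [hA2, ← map_mul]
      refine congrArg q (Subtype.ext ?_)
      show (PM : G) * E.f E1 * (PM : G)⁻¹ = E.f E1 * E.f E2
      rw [hPM, ← E.f_conj hP se1, e, E.f_mul se1 se2]
  set B1 := Z * A1 * Z⁻¹ with hB1
  set B2 := Z * Z * A1 * (Z * Z)⁻¹ with hB2
  have hB1c : B1 = A2 ∨ B1 = A1 * A2 := hB Z8 s3 qm1 zM rfl
  have hB2c : B2 = A2 ∨ B2 = A1 * A2 := by
    have := hB (Z8 * Z8) (sgn_mul s3 s3) qm2 (zM * zM) (E.f_mul s3 s3).symm
    rwa [map_mul, ← hZ] at this
  -- `A1` fixes nothing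
  have pair : ∀ B, (B = A2 ∨ B = A1 * A2) → B * A1 = A1 * B ∧ B * B = 1 ∧ ∀ a ∈ O, a * A1 = A1 * a → a * B = B * a → a = 1 := by
    intro B hBB
    rcases hBB with rfl | rfl
    · exact ⟨a12.symm, a22, fun a ha c1 c2 => fE a ha c1 c2⟩
    · refine ⟨?_, ?_, fun a ha c1 c2 => fE a ha c1 ?_⟩
      · rw [mul_assoc, a12.symm]
      · calc A1 * A2 * (A1 * A2) = A1 * (A2 * A1) * A2 := by group
          _ = A1 * (A1 * A2) * A2 := by rw [a12]
          _ = (A1 * A1) * (A2 * A2) := by group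
          _ = 1 := by rw [a11, a22, one_mul]
      · calc a * A2 = A1 * A1 * (a * A2) := by rw [a11, one_mul]
          _ = A1 * (A1 * a) * A2 := by group
          _ = A1 * (a * (A1 * A2)) := by rw [← c1]; group
          _ = A1 * ((A1 * A2) * a) := by rw [c2]
          _ = A2 * a := by rw [← mul_assoc, ← mul_assoc, a11, one_mul]
  have flip : ∀ B, (B = A2 ∨ B = A1 * A2) → ∀ a ∈ O, a * B = B * a → A1 * a * A1 = a⁻¹ := by
    intro B hBB a ha hc
    obtain ⟨hBA, -, hBf⟩ := pair B hBB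
    have hca : A1 * a * A1 ∈ O := conjO _ a11 a ha
    refine eq_inv_of_mul_eq_one_right (hBf (a * (A1 * a * A1)) (mul_mem ha hca) ?_ ?_)
    · calc a * (A1 * a * A1) * A1 = a * A1 * a * (A1 * A1) := by group
        _ = a * A1 * a := by rw [a11, mul_one]
        _ = (A1 * A1) * (a * A1 * a) := by rw [a11, one_mul]
        _ = A1 * ((A1 * a * A1) * a) := by group
        _ = A1 * (a * (A1 * a * A1)) := by rw [hab _ hca a ha]
    · calc a * (A1 * a * A1) * B = a * A1 * a * (A1 * B) := by group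
        _ = a * A1 * a * (B * A1) := by rw [hBA]
        _ = a * A1 * (a * B) * A1 := by group
        _ = a * A1 * (B * a) * A1 := by rw [hc]
        _ = a * (A1 * B) * a * A1 := by group
        _ = a * (B * A1) * a * A1 := by rw [hBA]
        _ = (a * B) * A1 * a * A1 := by group
        _ = B * (a * (A1 * a * A1)) := by rw [hc]; group
  have hfree : ∀ a ∈ O, a * A1 = A1 * a → a = 1 := by
    intro a ha hc
    set b := Z * a * Z⁻¹ with hb
    set c := Z * Z * a * (Z * Z)⁻¹ with hc'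
    have hbO : b ∈ O := hOn.conj_mem a ha Z
    have hcO : c ∈ O := hOn.conj_mem a ha (Z * Z)
    have hbB : b * B1 = B1 * b := by
      calc b * B1 = Z * (a * A1) * Z⁻¹ := by rw [hb, hB1]; group
        _ = Z * (A1 * a) * Z⁻¹ := by rw [hc]
        _ = B1 * b := by rw [hb, hB1]; group
    have hcB : c * B2 = B2 * c := by
      calc c * B2 = Z * Z * (a * A1) * (Z * Z)⁻¹ := by rw [hc', hB2]; group
        _ = Z * Z * (A1 * a) * (Z * Z)⁻¹ := by rw [hc]
        _ = B2 * c := by rw [hc', hB2]; group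
    have hb1 := flip B1 hB1c b hbO hbB
    have hc1 := flip B2 hB2c c hcO hcB
    have hp : a * b * c = 1 := by
      refine fz _ (mul_mem (mul_mem ha hbO) hcO) ?_
      have hz3 : Z * c * Z⁻¹ = a := by
        calc Z * c * Z⁻¹ = (Z * Z * Z) * a * (Z * Z * Z)⁻¹ := by rw [hc']; group
          _ = a := by rw [Z3]; group
      have hrot : Z * (a * b * c) * Z⁻¹ = a * b * c := by
        calc Z * (a * b * c) * Z⁻¹ = b * c * (Z * c * Z⁻¹) := by rw [hb, hc']; group
          _ = b * c * a := by rw [hz3]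
          _ = a * (b * c) := hab _ (mul_mem hbO hcO) a ha
          _ = a * b * c := (mul_assoc _ _ _).symm
      exact (conj_eq_iff.1 hrot).symm
    have h1 : A1 * (a * b * c) * A1 = a * (b⁻¹ * c⁻¹) := by
      calc A1 * (a * b * c) * A1 = (A1 * a) * ((A1 * A1) * b * (A1 * A1)) * c * A1 := by rw [a11]; group
        _ = (A1 * a * A1) * (A1 * b * A1) * (A1 * c * A1) := by group
        _ = a * (b⁻¹ * c⁻¹) := by rw [hb1, hc1, ← hc, mul_assoc a, a11, mul_one, mul_assoc]
    rw [hp, mul_one, a11] at h1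
    have hca : a = c * b := by
      calc a = (a * (b⁻¹ * c⁻¹)) * (c * b) := by group
        _ = c * b := by rw [← h1, one_mul]
    have hsq : a ^ 2 = 1 := by
      rw [pow_two]
      nth_rewrite 2 [hca]
      rw [hab c hcO b hbO, ← mul_assoc, hp]
    exact CfsgLib.ZStar.eq_one_of_odd_of_sq (hoddel a ha) hsq
  have Zpow_free : ∀ P : M ⧸ zpowers uM, ∀ a ∈ O, a * (P * A1 * P⁻¹) = (P * A1 * P⁻¹) * a → a = 1 := by
    intro P a ha hc
    have := hfree (P⁻¹ * a * P⁻¹⁻¹) (hOn.conj_mem a ha _) (by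
      calc P⁻¹ * a * P⁻¹⁻¹ * A1 = P⁻¹ * (a * (P * A1 * P⁻¹)) * P := by group
        _ = P⁻¹ * ((P * A1 * P⁻¹) * a) * P := by rw [hc]
        _ = A1 * (P⁻¹ * a * P⁻¹⁻¹) := by group)
    exact conj_eq_one_iff.1 this
  have hObot : O = ⊥ := by
    refine (eq_bot_iff_forall O).2 fun a ha => ?_
    have inv1 := inverts_of_fpf a11 (conjO _ a11) (fun a ha e => hfree a ha (by
      calc a * A1 = (A1 * a * A1) * A1 := by rw [e]
        _ = A1 * a := by rw [mul_assoc, a11, mul_one]))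
    have hdist : B1 ≠ B2 := by
      intro e
      have e' : q (zM * e1M * zM⁻¹ * (zM * zM * e1M * (zM * zM)⁻¹)⁻¹) = 1 := by
        simp only [map_mul, map_inv, ← hZ, ← hA1]
        rw [← hB1, ← hB2, e, mul_inv_cancel]
      have sA := sgn_mul (sgn_mul s3 se1) (sgn_inv s3)
      have sB := sgn_mul (sgn_mul (sgn_mul s3 s3) se1) (sgn_inv (sgn_mul s3 s3))
      rcases hker _ e' with r | r
      · have r' := mul_inv_eq_one.1 r
        refine qne (E.f_inj sA sB ?_)
        rw [E.f_conj s3 se1, E.f_conj (sgn_mul s3 s3) se1, E.f_mul s3 s3]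
        exact r'
      · have r' : E.f (Z8 * E1 * Z8⁻¹ * (Z8 * Z8 * E1 * (Z8 * Z8)⁻¹)⁻¹) = u := by
          rw [E.f_mul sA (sgn_inv sB), E.f_inv sB, E.f_conj s3 se1, E.f_conj (sgn_mul s3 s3) se1, E.f_mul s3 s3]
          exact r
        exact absurd (E.f_inj (sgn_mul sA (sgn_inv sB)) s1 r') (by decide +kernel)
    have f2 : ∀ a ∈ O, a * A2 = A2 * a → a = 1 := by
      intro a ha hc
      rcases hB1c with e | e
      · exact Zpow_free Z a ha (by rw [← hB1, e]; exact hc)
      · rcases hB2c with e' | e'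
        · exact Zpow_free (Z * Z) a ha (by rw [← hB2, e']; exact hc)
        · exact absurd (e.trans e'.symm) hdist
    have f3 : ∀ a ∈ O, a * (A1 * A2) = (A1 * A2) * a → a = 1 := by
      intro a ha hc
      rcases hB1c with e | e
      · rcases hB2c with e' | e'
        · exact absurd (e.trans e'.symm) hdist
        · exact Zpow_free (Z * Z) a ha (by rw [← hB2, e']; exact hc)
      · exact Zpow_free Z a ha (by rw [← hB1, e]; exact hc)
    have inv2 := inverts_of_fpf a22 (conjO _ a22) (fun a ha e => f2 a ha (by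
      calc a * A2 = (A2 * a * A2) * A2 := by rw [e]
        _ = A2 * a := by rw [mul_assoc, a22, mul_one]))
    refine f3 a ha ?_
    have hfix' : A1 * A2 * a * (A2 * A1) = a := by
      calc A1 * A2 * a * (A2 * A1) = A1 * (A2 * a * A2) * A1 := by group
        _ = A1 * a⁻¹ * A1 := by rw [inv2 a ha]
        _ = a := by rw [inv1 _ (inv_mem ha), inv_inv]
    calc a * (A1 * A2) = A1 * A2 * a * (A2 * A1) * (A1 * A2) := by rw [hfix']
      _ = A1 * A2 * a * (A2 * (A1 * A1) * A2) := by group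
      _ = A1 * A2 * a := by rw [a11, mul_one, a22, mul_one]
  -- conclusion
  set g : M := ⟨x, mM hx⟩
  have hg := CfsgLib.ZStar.mem_oddCore_of_isolated hiso (q g)
  rw [← hO, hObot, mem_bot] at hg
  have hc : q vM * q g = q g * q vM := mul_inv_eq_iff_eq_mul.1 (mul_inv_eq_one.1 hg)
  exact E.mem_of_stab hx (hcomm g vM hc.symm)

end Emb

end CfsgLib.Recog.EightThree
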