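import Cfsg.Agent.Lib.Recog.EightThree.Gen

/-!
Owner: helper10. The embedded `A₈` and its basic properties: it contains the centralisers of the
3-elements and of the four group, and an element conjugating an involution of four fixed points into it
lies in it as soon as that centraliser does.
-/

set_option autoImplicit false
set_option linter.all false

namespace CfsgLib.Recog.EightThree

open Subgroup Equiv
open scoped Pointwise

universe u

variable {G : Type u} [Group G] [Finite G] {h : Data G}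

namespace Emb

variable (E : Emb h)

/-- The embedded alternating group. -/
abbrev H : Subgroup G := E.ψ.range

/-- The image of an even permutation. -/
def f (x : S8) : G := if hx : Perm.sign x = 1 then E.ψ ⟨x, hx⟩ else 1

theorem f_apply {x : S8} (hx : Perm.sign x = 1) : E.f x = E.ψ ⟨x, hx⟩ := dif_pos hx

theorem f_mem (x : S8) : E.f x ∈ E.H := by
  unfold f; split
  exacts [⟨_, rfl⟩, one_mem _]

theorem exists_f {x : G} (hx : x ∈ E.H) : ∃ y : S8, Perm.sign y = 1 ∧ E.f y = x := by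
  obtain ⟨⟨y, hy⟩, rfl⟩ := hx
  exact ⟨y, hy, E.f_apply hy⟩

theorem f_one : E.f 1 = 1 := by rw [E.f_apply (map_one _)]; exact map_one E.ψ

theorem f_mul {x y : S8} (hx : Perm.sign x = 1) (hy : Perm.sign y = 1) : E.f (x * y) = E.f x * E.f y := by
  have hxy : Perm.sign (x * y) = 1 := by rw [map_mul, hx, hy, one_mul]
  rw [E.f_apply hx, E.f_apply hy, E.f_apply hxy]
  exact map_mul E.ψ ⟨x, hx⟩ ⟨y, hy⟩

theorem f_inv {x : S8} (hx : Perm.sign x = 1) : E.f x⁻¹ = (E.f x)⁻¹ := by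
  have hxi : Perm.sign x⁻¹ = 1 := by rw [map_inv, hx, inv_one]
  rw [E.f_apply hx, E.f_apply hxi]
  exact map_inv E.ψ ⟨x, hx⟩

theorem f_inj {x y : S8} (hx : Perm.sign x = 1) (hy : Perm.sign y = 1) (he : E.f x = E.f y) : x = y := by
  rw [E.f_apply hx, E.f_apply hy] at he
  exact congrArg Subtype.val (E.inj he)

theorem sgn_mul {x y : S8} (hx : Perm.sign x = 1) (hy : Perm.sign y = 1) : Perm.sign (x * y) = 1 := by
  rw [map_mul, hx, hy, one_mul]

theorem sgn_inv {x : S8} (hx : Perm.sign x = 1) : Perm.sign x⁻¹ = 1 := by rw [map_inv, hx, inv_one]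

theorem f_conj {x y : S8} (hx : Perm.sign x = 1) (hy : Perm.sign y = 1) :
    E.f (x * y * x⁻¹) = E.f x * E.f y * (E.f x)⁻¹ := by
  rw [E.f_mul (sgn_mul hx hy) (sgn_inv hx), E.f_mul hx hy, E.f_inv hx]

theorem f_commute {x y : S8} (hx : Perm.sign x = 1) (hy : Perm.sign y = 1) (he : x * y = y * x) :
    Commute (E.f x) (E.f y) := by
  show _ = _
  rw [← E.f_mul hx hy, ← E.f_mul hy hx, he]

theorem commute_of_f {x y : S8} (hx : Perm.sign x = 1) (hy : Perm.sign y = 1) (he : Commute (E.f x) (E.f y)) :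
    x * y = y * x :=
  E.f_inj (sgn_mul hx hy) (sgn_mul hy hx) (by rw [E.f_mul hx hy, E.f_mul hy hx]; exact he)

theorem f_iota {p : Pair} (hp : p ∈ ({pz, pw, pm, pu, pv} : Finset Pair)) : E.f (iota p) = h.e p := by
  have hev : ∀ p ∈ ({pz, pw, pm, pu, pv} : Finset Pair), Ev p := by decide +kernel
  have hs : Perm.sign (iota p) = 1 := by rw [sign_iota]; exact hev p hp
  rw [E.f_apply hs]
  exact E.agree p hp hs

theorem f_Z : E.f Z8 = h.z := E.f_iota (p := pz) (by decide +kernel)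
theorem f_W : E.f W8 = h.w := E.f_iota (p := pw) (by decide +kernel)
theorem f_M : E.f M8 = h.m := E.f_iota (p := pm) (by decide +kernel)
theorem f_U : E.f U8 = h.e pu := E.f_iota (p := pu) (by decide +kernel)
theorem f_V : E.f V8 = h.e pv := E.f_iota (p := pv) (by decide +kernel)

theorem f_sq {x : S8} (hx : Perm.sign x = 1) (h2 : x * x = 1) : E.f x * E.f x = 1 := by
  rw [← E.f_mul hx hx, h2, E.f_one]

theorem f_ne_one {x : S8} (hx : Perm.sign x = 1) (h1 : x ≠ 1) : E.f x ≠ 1 := fun e =>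
  h1 (E.f_inj hx (map_one _) (e.trans E.f_one.symm))

theorem mem_of_commute_z {x : G} (hx : Commute x h.z) : x ∈ E.H := by
  obtain ⟨p, hp, -, rfl⟩ := h.exists_of_commute_z hx
  exact E.norm_le (toG_mem_range h.φ hp)

theorem mem_of_commute_w {x : G} (hx : Commute x h.w) : x ∈ E.H := by
  obtain ⟨-, -, s3, -, -, s6, -⟩ := signs
  obtain ⟨hc, -, ht2, -, -⟩ := T8_conj
  have hT : E.f T8 * h.z * (E.f T8)⁻¹ = h.w := by rw [← E.f_Z, ← E.f_conj s6 s3, hc, E.f_W]
  have hy : Commute ((E.f T8)⁻¹ * x * E.f T8) h.z := by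
    show _ = _
    calc (E.f T8)⁻¹ * x * E.f T8 * h.z = (E.f T8)⁻¹ * (x * (E.f T8 * h.z * (E.f T8)⁻¹)) * E.f T8 := by group
      _ = (E.f T8)⁻¹ * ((E.f T8 * h.z * (E.f T8)⁻¹) * x) * E.f T8 := by rw [hT, hx.eq]
      _ = h.z * ((E.f T8)⁻¹ * x * E.f T8) := by group
  have := mul_mem (mul_mem (E.f_mem T8) (E.mem_of_commute_z hy)) (inv_mem (E.f_mem T8))
  rwa [show E.f T8 * ((E.f T8)⁻¹ * x * E.f T8) * (E.f T8)⁻¹ = x by group] at this

theorem sign_iota_nine {p : Pair} (hp : p ∈ nine) : Perm.sign (iota p) = 1 := by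
  rw [sign_iota]; exact ev_nine p hp

/-- The centraliser of `m` consists of the eighteen elements visible in `A₈`. -/
theorem exists_of_commute_m {x : G} (hx : Commute x h.m) :
    ∃ p ∈ nine, x = E.f (iota p) ∨ x = E.f (T8 * iota p) := by
  classical
  obtain ⟨-, -, -, -, s5, s6, -⟩ := signs
  set A := nine.image (fun p => E.f (iota p)) with hA
  set B := nine.image (fun p => E.f (T8 * iota p)) with hB
  have sT : ∀ {p : Pair}, p ∈ nine → Perm.sign (T8 * iota p) = 1 := fun hp => sgn_mul s6 (sign_iota_nine hp)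
  have hdisj : Disjoint A B := by
    rw [Finset.disjoint_left]
    intro a ha hb
    obtain ⟨p, hp, rfl⟩ := Finset.mem_image.1 ha
    obtain ⟨q, hq, he⟩ := Finset.mem_image.1 hb
    have e0 := congrArg (fun y : S8 => (y 0).val) (E.f_inj (sT hq) (sign_iota_nine hp) he)
    have h1 := nine_low.2 _ (nine_low.1 q hq)
    have h2 := nine_low.1 p hp
    simp only [Perm.mul_apply] at e0
    omega
  have cA : A.card = 9 := by
    rw [hA, Finset.card_image_of_injOn fun p hp q hq he =>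
      iota_injective (E.f_inj (sign_iota_nine hp) (sign_iota_nine hq) he), nine_card]
  have cB : B.card = 9 := by
    rw [hB, Finset.card_image_of_injOn fun p hp q hq he =>
      iota_injective (mul_left_cancel (E.f_inj (sT hp) (sT hq) he)), nine_card]
  have hsub : ((A ∪ B : Finset G) : Set G) ⊆ (centralizer ({h.m} : Set G) : Set G) := by
    intro a ha
    rw [Finset.mem_coe, Finset.mem_union] at ha
    refine mem_centralizer_singleton_iff.2 ?_
    have hmn : pm ∈ nine := by decide +kernel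
    have hcomm : ∀ p ∈ nine, iota p * M8 = M8 * iota p := fun p hp => by
      rw [M8, ← map_mul, ← map_mul, (nine_mul p hp pm hmn).2]
    rcases ha with ha | ha <;> obtain ⟨p, hp, rfl⟩ := Finset.mem_image.1 ha <;> rw [← E.f_M]
    · exact (E.f_commute (sign_iota_nine hp) s5 (hcomm p hp)).eq
    · refine (E.f_commute (sT hp) s5 ?_).eq
      rw [mul_assoc, hcomm p hp, ← mul_assoc, T8_conj.2.1, mul_assoc]
  have heq : ((A ∪ B : Finset G) : Set G) = (centralizer ({h.m} : Set G) : Set G) := by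
    refine Set.eq_of_subset_of_ncard_le hsub ?_ (Set.toFinite _)
    rw [Set.ncard_coe_finset, Finset.card_union_of_disjoint hdisj, cA, cB, ← Nat.card_coe_set_eq]
    exact h.card_mixed.le
  have hxm : x ∈ (centralizer ({h.m} : Set G) : Set G) := mem_centralizer_singleton_iff.2 hx.eq
  rw [← heq, Finset.mem_coe, Finset.mem_union] at hxm
  rcases hxm with ha | ha <;> obtain ⟨p, hp, rfl⟩ := Finset.mem_image.1 ha
  exacts [⟨p, hp, Or.inl rfl⟩, ⟨p, hp, Or.inr rfl⟩]

theorem mem_of_commute_m {x : G} (hx : Commute x h.m) : x ∈ E.H := by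
  obtain ⟨p, -, rfl | rfl⟩ := E.exists_of_commute_m hx <;> exact E.f_mem _

theorem mem_of_commute_mixed {q : Pair} (hq : q ∈ mixed) {x : G} (hx : Commute x (h.e q)) : x ∈ E.H := by
  have hpf : h.e pf ∈ E.H := E.norm_le (toG_mem_range h.φ ev_pf)
  have hconj : ∀ y, Commute y (h.e (pf * pm * pf⁻¹)) → y ∈ E.H := by
    intro y hy
    rw [Data.e, toG_conj h.φ ev_pf ev_pm] at hy
    have hc : Commute ((h.e pf)⁻¹ * y * h.e pf) h.m := by
      show _ = _
      calc (h.e pf)⁻¹ * y * h.e pf * h.m = (h.e pf)⁻¹ * (y * (h.e pf * h.m * (h.e pf)⁻¹)) * h.e pf := by group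
        _ = (h.e pf)⁻¹ * ((h.e pf * h.m * (h.e pf)⁻¹) * y) * h.e pf := by rw [show y * _ = _ * y from hy.eq]
        _ = h.m * ((h.e pf)⁻¹ * y * h.e pf) := by group
    have := mul_mem (mul_mem hpf (E.mem_of_commute_m hc)) (inv_mem hpf)
    rwa [show h.e pf * ((h.e pf)⁻¹ * y * h.e pf) * (h.e pf)⁻¹ = y by group] at this
  rcases mixed_link q hq with rfl | rfl | rfl | rfl
  · exact E.mem_of_commute_m hx
  · exact hconj x hx
  · rw [Data.e, toG_inv h.φ ev_pm] at hx
    exact E.mem_of_commute_m (Commute.inv_right_iff.1 hx)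
  · rw [Data.e, toG_inv h.φ (ev_mul (ev_mul ev_pf ev_pm) (ev_inv ev_pf))] at hx
    exact hconj x (Commute.inv_right_iff.1 hx)

/-- The centraliser of the four group is inside. -/
theorem CV_le : h.CV ≤ E.H := by
  obtain ⟨O, hO, hn, hmax, hcov⟩ := h.exists_complement
  have hOH : O ≤ E.H := by
    refine h.le_of_generated O hO hn hmax E.H fun q hq hq1 x hx hc => ?_
    rcases nine_cases q hq with e | e | e | e
    · exact absurd e hq1
    · rcases zline_wline_link.1 q e with rfl | rfl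
      · exact E.mem_of_commute_z hc
      · rw [Data.e, toG_inv h.φ ev_pz] at hc
        exact E.mem_of_commute_z (Commute.inv_right_iff.1 hc)
    · rcases zline_wline_link.2.1 q e with rfl | rfl
      · exact E.mem_of_commute_w hc
      · rw [Data.e, toG_inv h.φ ev_pw] at hc
        exact E.mem_of_commute_w (Commute.inv_right_iff.1 hc)
    · exact E.mem_of_commute_mixed e hc
  intro x hx
  obtain ⟨o, ho, i, rfl⟩ := hcov x hx
  refine mul_mem (hOH ho) (zpow_mem ?_ i)
  exact E.f_Z ▸ E.f_mem _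

/-- The two classes are not fused. -/
theorem not_fused (g : G) : g * E.f U8 * g⁻¹ ≠ E.f T8 := by
  intro e
  obtain ⟨s1, -, s3, -, s5, s6, -⟩ := signs
  obtain ⟨u2, -, u1, -, -, -, -, zu, -⟩ := around_u
  refine h.not_conj_mixed (E.f_sq s1 u2) (E.f_ne_one s1 u1) ?_ g ?_
  · rw [← E.f_Z]; exact E.f_commute s1 s3 zu.symm
  · rw [e, ← E.f_M]; exact E.f_commute s6 s5 T8_conj.2.1

theorem class_cases {x : G} (hx : x ∈ E.H) (h2 : x * x = 1) (h1 : x ≠ 1) :
    ∃ y : S8, Perm.sign y = 1 ∧ E.f y = x ∧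
      ((∃ k ∈ E.H, k * E.f U8 * k⁻¹ = x) ∧ UT y ∨ (∃ k ∈ E.H, k * E.f T8 * k⁻¹ = x) ∧ ¬ UT y) := by
  obtain ⟨s1, -, -, -, -, s6, -⟩ := signs
  obtain ⟨y, hy, rfl⟩ := E.exists_f hx
  have y2 : y * y = 1 := E.f_inj (sgn_mul hy hy) (map_one _) (by rw [E.f_mul hy hy, h2, E.f_one])
  have y1 : y ≠ 1 := fun e => h1 (by rw [e, E.f_one])
  refine ⟨y, hy, rfl, ?_⟩
  rcases involution_cases y2 y1 hy with ⟨⟨k, hk, hke⟩, hu⟩ | ⟨⟨k, hk, hke⟩, hu⟩
  · exact Or.inl ⟨⟨E.f k, E.f_mem k, by rw [← E.f_conj hk s1, hke]⟩, hu⟩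
  · exact Or.inr ⟨⟨E.f k, E.f_mem k, by rw [← E.f_conj hk s6, hke]⟩, hu⟩

/-- An element of the group conjugate to `u` and lying inside comes from a permutation with four fixed points. -/
theorem UT_of_conj {y : S8} (hy : Perm.sign y = 1) (g : G) (he : g * E.f U8 * g⁻¹ = E.f y) : UT y := by
  obtain ⟨s1, -⟩ := signs
  obtain ⟨u2, -, u1, -⟩ := around_u
  have h2 : E.f y * E.f y = 1 := by
    rw [← he, show g * E.f U8 * g⁻¹ * (g * E.f U8 * g⁻¹) = g * (E.f U8 * E.f U8) * g⁻¹ by group, E.f_sq s1 u2,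
      mul_one, mul_inv_cancel]
  have h1 : E.f y ≠ 1 := by
    rw [← he]; exact fun e => E.f_ne_one s1 u1 (conj_eq_one_iff.1 e)
  obtain ⟨y', hy', hye, h'⟩ := E.class_cases (E.f_mem y) h2 h1
  obtain rfl := E.f_inj hy' hy hye
  rcases h' with ⟨-, hu⟩ | ⟨⟨k, -, hk⟩, -⟩
  · exact hu
  · exfalso
    refine E.not_fused (k⁻¹ * g) ?_
    rw [show k⁻¹ * g * E.f U8 * (k⁻¹ * g)⁻¹ = k⁻¹ * (g * E.f U8 * g⁻¹) * k by group, he, ← hk]
    group

theorem conj_of_UT {y : S8} (hy : Perm.sign y = 1) (hu : UT y) : ∃ k ∈ E.H, k * E.f U8 * k⁻¹ = E.f y := by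
  obtain ⟨s1, -⟩ := signs
  have y1 : y ≠ 1 := by
    intro e
    have := hu.2
    simp [e] at this
  rcases involution_cases hu.1 y1 hy with ⟨⟨k, hk, hke⟩, -⟩ | ⟨-, hn⟩
  · exact ⟨E.f k, E.f_mem k, by rw [← E.f_conj hk s1, hke]⟩
  · exact absurd hu hn

/-- With `C(u)` inside, an element pulling a conjugate of `u` inside is inside. -/
theorem pull (hC : ∀ x, Commute x (E.f U8) → x ∈ E.H) {g : G} (hg : g * E.f U8 * g⁻¹ ∈ E.H) : g ∈ E.H := by
  obtain ⟨y, hy, he⟩ := E.exists_f hg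
  obtain ⟨k, hk, hke⟩ := E.conj_of_UT hy (E.UT_of_conj hy g he.symm)
  rw [he] at hke
  have hc : Commute (k⁻¹ * g) (E.f U8) := by
    show _ = _
    calc k⁻¹ * g * E.f U8 = k⁻¹ * (g * E.f U8 * g⁻¹) * g := by group
      _ = k⁻¹ * (k * E.f U8 * k⁻¹) * g := by rw [hke]
      _ = E.f U8 * (k⁻¹ * g) := by group
  have := mul_mem hk (hC _ hc)
  rwa [mul_inv_cancel_left] at this

end Emb

end CfsgLib.Recog.EightThree
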