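import Cfsg.Agent.Lib.Recog.EightThree.Small
import Cfsg.Agent.Lib.Recog.AltPresentation

/-!
Owner: helper10. The missing Moore generator and the embedding of `A₈`.
-/

set_option autoImplicit false
set_option linter.all false

namespace CfsgLib.Recog.EightThree

open Subgroup Equiv CfsgLib.Recog.AltPresentation

universe u

theorem alt_le_gen : alternatingGroup (Fin 8) ≤ closure (Set.range gA) := by
  set R := closure (Set.range gA) with hR
  have hmem : ∀ i, gA i ∈ R := fun i => subset_closure ⟨i, rfl⟩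
  have hite : ∀ i : Fin 6, (if i.val = 0 then gA 0 * gA 0 else gA i) ∈ R := fun i => by
    split
    exacts [mul_mem (hmem 0) (hmem 0), hmem i]
  set s : S8 := swap 0 1 with hs
  have hss : s * s = 1 := by rw [hs, swap_mul_self]
  have hconj : ∀ r ∈ R, s * r * s ∈ R := by
    intro r hr
    induction hr using closure_induction with
    | mem g hg => obtain ⟨i, rfl⟩ := hg; rw [hs, conj_gA]; exact hite i
    | one => rw [mul_one, hss]; exact one_mem _
    | mul p q _ _ hp hq =>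
      rw [show s * (p * q) * s = (s * p * s) * (s * q * s) by
        calc s * (p * q) * s = s * p * 1 * q * s := by group
          _ = _ := by rw [← hss]; group]
      exact mul_mem hp hq
    | inv p _ hp =>
      have hsi : s⁻¹ = s := inv_eq_of_mul_eq_one_left hss
      rw [show s * p⁻¹ * s = (s⁻¹ * p * s⁻¹)⁻¹ by group, hsi]
      exact inv_mem hp
  have hb : ∀ i : Fin 7, (swap i.castSucc i.succ : S8) * s ∈ R := by
    intro i
    refine Fin.cases ?_ (fun j => ?_) i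
    · rw [show (swap (0 : Fin 7).castSucc (0 : Fin 7).succ : S8) = s from rfl, hss]; exact one_mem _
    · rw [hs, swap_times j]; exact hite j
  have hcover : ∀ g : S8, g ∈ R ∨ g * s ∈ R := by
    intro g
    have hg : g ∈ Submonoid.closure (Set.range fun i : Fin 7 => (swap i.castSucc i.succ : S8)) := by
      rw [Perm.mclosure_swap_castSucc_succ]; trivial
    induction hg using Submonoid.closure_induction_right with
    | one => exact Or.inl (one_mem _)
    | mul_right g _ b hb' ih =>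
      obtain ⟨i, rfl⟩ := hb'
      rcases ih with ih | ih
      · refine Or.inr ?_
        rw [mul_assoc]
        exact mul_mem ih (hb i)
      · refine Or.inl ?_
        have h1 := mul_mem ih (hconj _ (hb i))
        rwa [show g * s * (s * ((swap i.castSucc i.succ : S8) * s) * s) =
          g * (s * s) * (swap i.castSucc i.succ : S8) * (s * s) by group, hss, mul_one, mul_one] at h1
  intro g hg
  have hRle : R ≤ alternatingGroup (Fin 8) := by
    rw [hR, closure_le]; rintro _ ⟨i, rfl⟩; exact gA_sign i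
  rcases hcover g with e | e
  · exact e
  · exfalso
    have h1 : Perm.sign (g * s) = 1 := hRle e
    rw [map_mul, show Perm.sign g = 1 from hg, hs, Perm.sign_swap (by decide)] at h1
    exact absurd h1 (by decide)

variable {G : Type u} [Group G] [Finite G]

/-- An embedding of `A₈` compatible with the data. -/
structure Emb (h : Data G) where
  ψ : alternatingGroup (Fin 8) →* G
  inj : Function.Injective ψ
  agree : ∀ p ∈ ({pz, pw, pm, pu, pv} : Finset Pair), ∀ hp : iota p ∈ alternatingGroup (Fin 8),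
    ψ ⟨iota p, hp⟩ = h.e p
  norm_le : h.φ.range ≤ ψ.range

namespace Data

variable (h : Data G)

theorem conj_CV {p : Pair} (hev : Ev p)
    (hp : ∀ v ∈ ({pu, pv, pu * pv} : Finset Pair), p⁻¹ * v * p ∈ ({pu, pv, pu * pv} : Finset Pair))
    {x : G} (hx : x ∈ h.CV) : h.e p * x * (h.e p)⁻¹ ∈ h.CV := by
  have key : ∀ v ∈ ({pu, pv, pu * pv} : Finset Pair), Commute x (h.e v) := by
    obtain ⟨a, b⟩ := h.mem_CV.1 hx
    intro v hv
    simp only [Finset.mem_insert, Finset.mem_singleton] at hv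
    rcases hv with rfl | rfl | rfl
    · exact a
    · exact b
    · rw [Data.e, toG_mul h.φ ev_pu ev_pv]; exact a.mul_right b
  have hev' : ∀ v ∈ ({pu, pv, pu * pv} : Finset Pair), Ev v := by decide +kernel
  have step : ∀ v ∈ ({pu, pv, pu * pv} : Finset Pair), Commute (h.e p * x * (h.e p)⁻¹) (h.e v) := by
    intro v hv
    have h1 := key _ (hp v hv)
    rw [Data.e, show p⁻¹ * v * p = p⁻¹ * v * p⁻¹⁻¹ by rw [inv_inv], toG_conj h.φ (ev_inv hev) (hev' v hv),
      toG_inv h.φ hev, inv_inv] at h1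
    show _ = _
    calc h.e p * x * (h.e p)⁻¹ * h.e v = h.e p * (x * ((h.e p)⁻¹ * h.e v * h.e p)) * (h.e p)⁻¹ := by group
      _ = h.e p * (((h.e p)⁻¹ * h.e v * h.e p) * x) * (h.e p)⁻¹ := by rw [show x * _ = _ * x from h1.eq]
      _ = h.e v * (h.e p * x * (h.e p)⁻¹) := by group
  exact h.mem_CV.2 ⟨step pu (by decide +kernel), step pv (by decide +kernel)⟩

/-- The missing generator. -/
theorem exists_r : ∃ r : G, r * r = 1 ∧ h.z * r * (h.z * r) * (h.z * r) = 1 ∧
    r * h.e (px 0) * (r * h.e (px 0)) * (r * h.e (px 0)) = 1 ∧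
    Commute r (h.e (px 1)) ∧ Commute r (h.e (px 2)) ∧ Commute r (h.e (px 3)) := by
  classical
  obtain ⟨O, hO, hn, hmax, hcov⟩ := h.exists_complement
  obtain ⟨x0, hx0, hx01, hx0w⟩ := h.exists_U O hO hn hmax hcov
  have hgz : h.g * h.z * h.g⁻¹ = h.w := h.gz
  have hgw : h.g * h.w * h.g⁻¹ = h.z := h.gw
  have back : ∀ {x y : G}, Commute x (h.g * y * h.g⁻¹) → Commute (h.g⁻¹ * x * h.g) y := by
    intro x y hc
    show _ = _
    calc h.g⁻¹ * x * h.g * y = h.g⁻¹ * (x * (h.g * y * h.g⁻¹)) * h.g := by group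
      _ = h.g⁻¹ * ((h.g * y * h.g⁻¹) * x) * h.g := by rw [hc.eq]
      _ = y * (h.g⁻¹ * x * h.g) := by group
  set em : S5 → G := fun b => h.g * h.e (1, b) * h.g⁻¹ with hem
  have evb : ∀ {b : S5}, Perm.sign b = 1 → Ev ((1, b) : Pair) := fun hb => by rw [Ev, map_one, one_mul]; exact hb
  have em_mul : ∀ {a b : S5}, Perm.sign a = 1 → Perm.sign b = 1 → em (a * b) = em a * em b := by
    intro a b ha hb
    simp only [hem]
    rw [show ((1, a * b) : Pair) = (1, a) * (1, b) from Prod.ext (one_mul 1).symm rfl, Data.e,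
      toG_mul h.φ (evb ha) (evb hb)]
    group
  have em_inv : ∀ {a : S5}, Perm.sign a = 1 → em a⁻¹ = (em a)⁻¹ := by
    intro a ha
    simp only [hem]
    rw [show ((1, a⁻¹) : Pair) = (1, a)⁻¹ from Prod.ext inv_one.symm rfl, Data.e, toG_inv h.φ (evb ha)]
    group
  have em_one : em 1 = 1 := by
    simp only [hem]
    rw [show ((1, 1) : Pair) = 1 from rfl, show h.e 1 = 1 from toG_one h.φ]; group
  have emW : em W = h.z := hgw
  have sW : Perm.sign W = 1 := by decide +kernel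
  have coord : ∀ x ∈ O, Commute x h.w → ∃ b, Perm.sign b = 1 ∧ em b = x := by
    intro x hx hw
    obtain ⟨p, hp, hpz, hpe⟩ := h.exists_of_commute_z (back (hgz.symm ▸ hw : Commute x (h.g * h.z * h.g⁻¹)))
    have hord : ¬ 3 ∣ orderOf (h.e p) := by
      rw [hpe, show h.g⁻¹ * x * h.g = h.g⁻¹ * x * h.g⁻¹⁻¹ by group, orderOf_conj']
      exact fun h3 => hn (h3.trans (Subgroup.orderOf_dvd_natCard _ hx))
    have hp1 : p.1 = 1 := h.fst_eq_one hp (sign_commute_c3 p.1 (congrArg Prod.fst hpz)).2 hord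
    have hs : Perm.sign p.2 = 1 := by
      have := hp; rw [Ev, hp1, map_one, one_mul] at this; exact this
    refine ⟨p.2, hs, ?_⟩
    simp only [hem]
    rw [show ((1, p.2) : Pair) = p from Prod.ext hp1.symm rfl, hpe]; group
  set B : Set S5 := {b | Perm.sign b = 1 ∧ em b ∈ O} with hB
  have hBw : ∀ b ∈ B, W * b * W⁻¹ ∈ B ∧ W⁻¹ * b * W ∈ B := by
    intro b hb
    have sWi : Perm.sign W⁻¹ = 1 := by rw [map_inv, sW, inv_one]
    have hzO : ∀ k, (k = h.z ∨ k = h.z⁻¹) → k * em b * k⁻¹ ∈ O := by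
      intro k hk
      refine hmax _ ?_ ?_
      · have hkC : k ∈ h.CV := by
          rcases hk with rfl | rfl
          exacts [h.z_mem_CV, inv_mem h.z_mem_CV]
        exact mul_mem (mul_mem hkC (hO hb.2)) (inv_mem hkC)
      · rw [orderOf_conj']
        exact fun h3 => hn (h3.trans (Subgroup.orderOf_dvd_natCard _ hb.2))
    refine ⟨⟨by rw [map_mul, map_mul, sW, hb.1, sWi]; rfl, ?_⟩, ⟨by rw [map_mul, map_mul, sW, hb.1, sWi]; rfl, ?_⟩⟩
    · rw [em_mul (by rw [map_mul, sW, hb.1]; rfl) sWi, em_mul sW hb.1, em_inv sW, emW]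
      exact hzO _ (Or.inl rfl)
    · rw [em_mul (by rw [map_mul, sWi, hb.1]; rfl) sW, em_mul sWi hb.1, em_inv sW, emW]
      have := hzO _ (Or.inr rfl)
      rwa [inv_inv] at this
  have hBmul : ∀ a ∈ B, ∀ b ∈ B, a * b ∈ B := fun a ha b hb =>
    ⟨by rw [map_mul, ha.1, hb.1]; rfl, by rw [em_mul ha.1 hb.1]; exact mul_mem ha.2 hb.2⟩
  have hBinv : ∀ a ∈ B, a⁻¹ ∈ B := fun a ha =>
    ⟨by rw [map_inv, ha.1, inv_one], by rw [em_inv ha.1]; exact inv_mem ha.2⟩
  have em_inj : ∀ {a b : S5}, Perm.sign a = 1 → Perm.sign b = 1 → em a = em b → a = b := by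
    intro a b ha hb he
    simp only [hem, mul_left_inj, mul_right_inj] at he
    exact congrArg Prod.snd (toG_inj h.φ h.inj (evb ha) (evb hb) he)
  have hBN : ∀ b ∈ B, N3 b := by
    intro b hb
    rcases eq_or_ne b 1 with e | hb1
    · exact Or.inl e
    refine Or.inr fun e => hb1 (em_inj hb.1 (map_one _) ?_)
    rw [em_one]
    by_contra hne
    haveI := Fact.mk Nat.prime_three
    have h3 : orderOf (em b) = 3 := orderOf_eq_prime (by
      rw [pow_succ, pow_two, ← em_mul hb.1 hb.1, ← em_mul (by rw [map_mul, hb.1]; rfl) hb.1, e, em_one]) hne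
    exact hn (h3 ▸ Subgroup.orderOf_dvd_natCard _ hb.2)
  have hA : ∀ b ∈ B, b ≠ 1 → C3 b := fun b hb hb1 =>
    (factA b hb.1 (hBN b hb) (hBN _ (hBmul _ hb _ (hBw b hb).1)) (hBN _ (hBmul _ hb _ (hBinv _ (hBw b hb).1)))
      (hBN _ (hBmul _ hb _ (hBw b hb).2))
      (hBN _ (hBmul _ (hBmul _ (hBmul _ hb _ (hBw b hb).1) _ hb) _ (hBw b hb).2))).resolve_left hb1
  obtain ⟨b0, hb0s, hb0e⟩ := coord x0 hx0 hx0w
  have hb0 : b0 ∈ B := ⟨hb0s, hb0e.symm ▸ hx0⟩
  have hb01 : b0 ≠ 1 := fun e => hx01 (by rw [← hb0e, e, em_one])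
  -- the images of `px 2` and `px 0`
  have hx4 : h.e (px 2) * h.e (px 2) = 1 ∧ h.e (px 2) * h.z * (h.e (px 2))⁻¹ = h.z⁻¹ ∧
      h.e (px 2) * h.w * (h.e (px 2))⁻¹ = h.w⁻¹ := by
    obtain ⟨r1, -, -, -, r5⟩ := px_relations
    refine ⟨?_, ?_, ?_⟩
    · rw [← toG_mul h.φ (ev_px 2) (ev_px 2), (r1 2).1, toG_one]
    · rw [← toG_conj h.φ (ev_px 2) ev_pz, (r1 2).2, toG_inv h.φ ev_pz]
    · rw [← toG_conj h.φ (ev_px 2) ev_pw, r5, toG_inv h.φ ev_pw]
  set x4 := h.e (px 2) with hx4def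
  obtain ⟨q, hq, hqe⟩ := h.exists_of_normalizes (x := h.g⁻¹ * x4 * h.g) (Or.inr (by
    calc h.g⁻¹ * x4 * h.g * h.z * (h.g⁻¹ * x4 * h.g)⁻¹ = h.g⁻¹ * (x4 * (h.g * h.z * h.g⁻¹) * x4⁻¹) * h.g := by group
      _ = h.g⁻¹ * (h.g * h.z * h.g⁻¹)⁻¹ * h.g := by rw [hgz, hx4.2.2]
      _ = h.z⁻¹ := by group))
  have hqz : q * pz * q⁻¹ = pz⁻¹ := by
    refine toG_inj h.φ h.inj (ev_mul (ev_mul hq ev_pz) (ev_inv hq)) (ev_inv ev_pz) ?_
    rw [toG_conj h.φ hq ev_pz, toG_inv h.φ ev_pz, show toG h.φ q = h.g⁻¹ * x4 * h.g from hqe]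
    calc h.g⁻¹ * x4 * h.g * h.z * (h.g⁻¹ * x4 * h.g)⁻¹ = h.g⁻¹ * (x4 * (h.g * h.z * h.g⁻¹) * x4⁻¹) * h.g := by group
      _ = h.g⁻¹ * (h.g * h.z * h.g⁻¹)⁻¹ * h.g := by rw [hgz, hx4.2.2]
      _ = h.z⁻¹ := by group
  have hqsign : Perm.sign q.2 = -1 := by
    have h1 := invert_c3 q.1 (congrArg Prod.fst hqz)
    have h2 := hq
    rw [Ev, h1, neg_one_mul] at h2
    rw [← neg_neg (Perm.sign q.2), h2]
  have hq2 : q * q = 1 := by
    refine toG_inj h.φ h.inj (ev_mul hq hq) ev_one ?_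
    rw [toG_mul h.φ hq hq, toG_one, show toG h.φ q = h.g⁻¹ * x4 * h.g from hqe]
    calc h.g⁻¹ * x4 * h.g * (h.g⁻¹ * x4 * h.g) = h.g⁻¹ * (x4 * x4) * h.g := by group
      _ = 1 := by rw [hx4.1]; group
  have hqi : q.2⁻¹ = q.2 := inv_eq_of_mul_eq_one_left (congrArg Prod.snd hq2)
  have hqw : q * pw * q⁻¹ = pw⁻¹ := by
    refine toG_inj h.φ h.inj (ev_mul (ev_mul hq ev_pw) (ev_inv hq)) (ev_inv ev_pw) ?_
    rw [toG_conj h.φ hq ev_pw, toG_inv h.φ ev_pw, show toG h.φ q = h.g⁻¹ * x4 * h.g from hqe]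
    calc h.g⁻¹ * x4 * h.g * h.w * (h.g⁻¹ * x4 * h.g)⁻¹ = h.g⁻¹ * (x4 * (h.g * h.w * h.g⁻¹) * x4⁻¹) * h.g := by group
      _ = h.g⁻¹ * (h.g * h.w * h.g⁻¹)⁻¹ * h.g := by rw [hgw, hx4.2.1]
      _ = h.w⁻¹ := by group
  have hQ : Q q.2 := ⟨hqsign, congrArg Prod.snd hq2, by
    have := congrArg Prod.snd hqw
    simpa [pw, hqi] using this⟩
  have hqconj : ∀ b ∈ B, q.2 * b * q.2 ∈ B ∧ em (q.2 * b * q.2) = x4 * em b * x4⁻¹ := by
    intro b hb
    have hs : Perm.sign (q.2 * b * q.2) = 1 := by rw [map_mul, map_mul, hqsign, hb.1]; decide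
    have e : em (q.2 * b * q.2) = x4 * em b * x4⁻¹ := by
      simp only [hem]
      rw [show ((1, q.2 * b * q.2) : Pair) = q * (1, b) * q⁻¹ from Prod.ext (by simp) (by simp [hqi]), Data.e,
        toG_conj h.φ hq (evb hb.1), show toG h.φ q = h.g⁻¹ * x4 * h.g from hqe]
      group
    refine ⟨⟨hs, ?_⟩, e⟩
    rw [e]
    refine hmax _ (h.conj_CV (ev_px 2) (fun v hv => ?_) (hO hb.2)) ?_
    · have h1 := px_four 2 (by decide) v hv
      rwa [inv_eq_of_mul_eq_one_left (px_relations.1 2).1] at h1 ⊢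
    · rw [orderOf_conj']; exact fun h3 => hn (h3.trans (Subgroup.orderOf_dvd_natCard _ hb.2))
  obtain ⟨b, hb, hb1, hbq⟩ : ∃ b ∈ B, b ≠ 1 ∧ q.2 * b * q.2 = b := by
    rcases factB q.2 hQ b0 hb0.1 hb01 (hA b0 hb0 hb01) (hBN _ (hBmul _ (hqconj b0 hb0).1 _ hb0)) with e | e | e
    · exact ⟨b0, hb0, hb01, e⟩
    · exact ⟨_, (hBw b0 hb0).1, fun e1 => hb01 (conj_eq_one_iff.1 e1), e⟩
    · refine ⟨_, (hBw b0 hb0).2, fun e1 => hb01 ?_, e⟩
      rw [show W⁻¹ * b0 * W = W⁻¹ * b0 * W⁻¹⁻¹ by rw [inv_inv]] at e1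
      exact conj_eq_one_iff.1 e1
  obtain ⟨hbb, hbW, -⟩ := hA b hb hb1
  have hx2w : Commute (h.e (px 0)) (h.g * h.z * h.g⁻¹) := by
    rw [hgz]; exact toG_commute h.φ (ev_px 0) ev_pw px_relations.2.2.2.1
  obtain ⟨a, ha, haz, hae⟩ := h.exists_of_commute_z (back hx2w)
  have hax : h.g⁻¹ * h.e (px 0) * h.g = toG h.φ a := hae.symm
  have ha2 : a * a = 1 := by
    refine toG_inj h.φ h.inj (ev_mul ha ha) ev_one ?_
    rw [toG_mul h.φ ha ha, toG_one, ← hax]
    calc h.g⁻¹ * h.e (px 0) * h.g * (h.g⁻¹ * h.e (px 0) * h.g) = h.g⁻¹ * (h.e (px 0) * h.e (px 0)) * h.g := by group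
      _ = 1 := by rw [← toG_mul h.φ (ev_px 0) (ev_px 0), (px_relations.1 0).1, toG_one]; group
  have ha1 : a.1 = 1 := fix_c3 a.1 (congrArg Prod.fst haz) (congrArg Prod.fst ha2)
  have has : Perm.sign a.2 = 1 := by
    have := ha; rw [Ev, ha1, map_one, one_mul] at this; exact this
  have hai : a.2⁻¹ = a.2 := inv_eq_of_mul_eq_one_left (congrArg Prod.snd ha2)
  have hema : em a.2 = h.e (px 0) := by
    simp only [hem]
    rw [show ((1, a.2) : Pair) = a from Prod.ext ha1.symm rfl, Data.e, ← hax]; group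
  have haw : a.2 * W * a.2 = W⁻¹ := by
    refine em_inj (by rw [map_mul, map_mul, has, sW]; rfl) (by rw [map_inv, sW, inv_one]) ?_
    rw [em_mul (by rw [map_mul, has, sW]; rfl) has, em_mul has sW, em_inv sW, hema, emW]
    have h1 := (px_relations.1 0).2
    have h2 : h.e (px 0) * h.z * (h.e (px 0))⁻¹ = h.z⁻¹ := by
      rw [← toG_conj h.φ (ev_px 0) ev_pz, h1, toG_inv h.φ ev_pz]
    rwa [show (h.e (px 0))⁻¹ = h.e (px 0) from inv_eq_of_mul_eq_one_left
      (by rw [← toG_mul h.φ (ev_px 0) (ev_px 0), (px_relations.1 0).1, toG_one])] at h2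
  have haq : a.2 * q.2 = q.2 * a.2 := by
    refine congrArg Prod.snd (toG_inj h.φ h.inj (ev_mul ha hq) (ev_mul hq ha) ?_)
    rw [toG_mul h.φ ha hq, toG_mul h.φ hq ha, ← hax, show toG h.φ q = h.g⁻¹ * x4 * h.g from hqe]
    have hc : Commute (h.e (px 0)) x4 :=
      toG_commute h.φ (ev_px 0) (ev_px 2) (px_relations.2.2.1 0 2 (by decide))
    calc h.g⁻¹ * h.e (px 0) * h.g * (h.g⁻¹ * x4 * h.g) = h.g⁻¹ * (h.e (px 0) * x4) * h.g := by group
      _ = h.g⁻¹ * (x4 * h.e (px 0)) * h.g := by rw [hc.eq]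
      _ = h.g⁻¹ * x4 * h.g * (h.g⁻¹ * h.e (px 0) * h.g) := by group
  have hfc := factC q.2 hQ a.2 ⟨has, congrArg Prod.snd ha2⟩ haw haq b ⟨hb.1, hb1⟩ (hA b hb hb1) hbq
  set r := em b with hr
  have hrv := h.mem_CV.1 (hO hb.2)
  have hrw : Commute r h.w := by
    have hc : Commute (h.e (1, b)) h.z := toG_commute h.φ (evb hb.1) ev_pz (Prod.ext (by simp [pz]) (by simp [pz]))
    rw [← hgz, hr, hem]
    exact hc.map (MulAut.conj h.g).toMonoidHom
  have hr4 : Commute r x4 := by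
    have := (hqconj b hb).2
    rw [hbq] at this
    exact (conj_eq_iff.1 this.symm).symm
  have hk12 : ∀ k ∈ four12, Ev ((1, k) : Pair) → Commute r (h.e (1, k)) := by
    intro k hk hev
    obtain ⟨⟨v, i⟩, hvi, rfl⟩ := Finset.mem_image.1 hk
    obtain ⟨hv, hi⟩ := Finset.mem_product.1 hvi
    have hve : Ev ((1, v) : Pair) ∧ Commute r (h.e (1, v)) := by
      simp only [Finset.mem_insert, Finset.mem_singleton] at hv
      rcases hv with rfl | rfl | rfl | rfl
      · exact ⟨ev_one, by rw [show ((1, 1) : Pair) = 1 from rfl, show h.e 1 = 1 from toG_one h.φ]; exact Commute.one_right r⟩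
      · exact ⟨ev_pu, hrv.1⟩
      · exact ⟨ev_pv, hrv.2⟩
      · refine ⟨ev_mul ev_pu ev_pv, ?_⟩
        rw [show ((1, pu.2 * pv.2) : Pair) = pu * pv from rfl, Data.e, toG_mul h.φ ev_pu ev_pv]
        exact hrv.1.mul_right hrv.2
    have hie : Ev ((1, i) : Pair) ∧ Commute r (h.e (1, i)) := by
      simp only [Finset.mem_insert, Finset.mem_singleton] at hi
      rcases hi with rfl | rfl | rfl
      · exact ⟨ev_one, by rw [show ((1, 1) : Pair) = 1 from rfl, show h.e 1 = 1 from toG_one h.φ]; exact Commute.one_right r⟩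
      · exact ⟨ev_pw, hrw⟩
      · refine ⟨ev_mul ev_pw ev_pw, ?_⟩
        rw [show ((1, W * W) : Pair) = pw * pw from rfl, Data.e, toG_mul h.φ ev_pw ev_pw]
        exact hrw.mul_right hrw
    rw [show ((1, (v, i).1 * (v, i).2) : Pair) = (1, v) * (1, i) from Prod.ext (one_mul 1).symm rfl, Data.e,
      toG_mul h.φ hve.1 hie.1]
    exact hve.2.mul_right hie.2
  obtain ⟨k12, k23, f12, f23⟩ := px_products
  have h12 : Commute r (h.e (px 1 * px 2)) := by
    have hev := ev_mul (ev_px 1) (ev_px 2)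
    rw [show px 1 * px 2 = (1, (px 1 * px 2).2) from Prod.ext f12 rfl] at hev ⊢
    exact hk12 _ k12 hev
  have h23 : Commute r (h.e (px 2 * px 3)) := by
    have hev := ev_mul (ev_px 2) (ev_px 3)
    rw [show px 2 * px 3 = (1, (px 2 * px 3).2) from Prod.ext f23 rfl] at hev ⊢
    exact hk12 _ k23 hev
  refine ⟨r, ?_, ?_, ?_, ?_, hr4, ?_⟩
  · rw [hr, ← em_mul hb.1 hb.1, hbb, em_one]
  · have sWb : Perm.sign (W * b) = 1 := by rw [map_mul, sW, hb.1]; rfl
    rw [← emW, hr, ← em_mul sW hb.1, ← em_mul sWb sWb, ← em_mul (by rw [map_mul, sWb]; rfl) sWb, hbW, em_one]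
  · have sba : Perm.sign (b * a.2) = 1 := by rw [map_mul, has, hb.1]; rfl
    rw [← hema, hr, ← em_mul hb.1 has, ← em_mul sba sba, ← em_mul (by rw [map_mul, sba]; rfl) sba, hfc, em_one]
  · have e1 : h.e (px 1) = h.e (px 1 * px 2) * x4 := by
      rw [hx4def, ← toG_mul h.φ (ev_mul (ev_px 1) (ev_px 2)) (ev_px 2), mul_assoc, (px_relations.1 2).1, mul_one]
    rw [e1]; exact h12.mul_right hr4
  · have e1 : h.e (px 3) = x4 * h.e (px 2 * px 3) := by
      rw [hx4def, ← toG_mul h.φ (ev_px 2) (ev_mul (ev_px 2) (ev_px 3)), ← mul_assoc, (px_relations.1 2).1, one_mul]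
    rw [e1]; exact hr4.mul_right h23

theorem nonempty_emb : Nonempty (Emb h) := by
  classical
  obtain ⟨r, rr, rz, r2, r3, r4, r5⟩ := h.exists_r
  set gG : Fin 6 → G := ![h.z, r, h.e (px 0), h.e (px 1), h.e (px 2), h.e (px 3)] with hgG
  obtain ⟨p1, p3, p2, -, -⟩ := px_relations
  have esq : ∀ i, h.e (px i) * h.e (px i) = 1 := fun i => by
    rw [← toG_mul h.φ (ev_px i) (ev_px i), (p1 i).1, toG_one]
  have einv : ∀ i, h.z * h.e (px i) * (h.z * h.e (px i)) = 1 := by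
    intro i
    have h2 : h.e (px i) * h.z * (h.e (px i))⁻¹ = h.z⁻¹ := by
      rw [← toG_conj h.φ (ev_px i) ev_pz, (p1 i).2, toG_inv h.φ ev_pz]
    rw [inv_eq_of_mul_eq_one_left (esq i)] at h2
    calc h.z * h.e (px i) * (h.z * h.e (px i)) = h.z * (h.e (px i) * h.z * h.e (px i)) := by group
      _ = 1 := by rw [h2, mul_inv_cancel]
  have ecomm : ∀ i j : Fin 4, i.val + 1 < j.val → h.e (px i) * h.e (px j) * (h.e (px i) * h.e (px j)) = 1 := by
    intro i j hij
    have hc : Commute (h.e (px i)) (h.e (px j)) := toG_commute h.φ (ev_px i) (ev_px j) (p2 i j hij)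
    rw [hc.symm.mul_mul_mul_comm, esq, esq, one_mul]
  have ebraid : ∀ i j : Fin 4, j.val = i.val + 1 →
      h.e (px i) * h.e (px j) * (h.e (px i) * h.e (px j)) * (h.e (px i) * h.e (px j)) = 1 := by
    intro i j hij
    have hm := ev_mul (ev_px i) (ev_px j)
    rw [← toG_mul h.φ (ev_px i) (ev_px j), ← toG_mul h.φ hm hm, ← toG_mul h.φ (ev_mul hm hm) hm, p3 i j hij, toG_one]
  have rfar : ∀ {y : G}, Commute r y → y * y = 1 → r * y * (r * y) = 1 := fun hc hy => by
    rw [hc.symm.mul_mul_mul_comm, rr, hy, one_mul]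
  set X : ℕ → G × alternatingGroup (Fin 8) := fun i =>
    if hi : i < 6 then (gG ⟨i, hi⟩, ⟨gA ⟨i, hi⟩, gA_sign _⟩) else 1 with hX
  have hXi : ∀ i (hi : i < 6), X i = (gG ⟨i, hi⟩, ⟨gA ⟨i, hi⟩, gA_sign _⟩) := fun i hi => dif_pos hi
  obtain ⟨a0, a1, a2, a3⟩ := gA_rels
  have hR : Rels X 6 := by
    refine ⟨fun _ => ?_, fun i h1 h2 => ?_, fun i hi => ?_, fun i j hij hj => ?_⟩
    · rw [hXi 0 (by norm_num)]
      exact Prod.ext h.z_pow_three (Subtype.ext a0)
    · rw [hXi i h2]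
      refine Prod.ext ?_ (Subtype.ext (a1 _ h1))
      interval_cases i
      exacts [rr, esq 0, esq 1, esq 2, esq 3]
    · rw [hXi i (by omega), hXi (i + 1) (by omega)]
      refine Prod.ext ?_ (Subtype.ext (a2 _ _ rfl))
      have hi5 : i < 5 := by omega
      interval_cases i
      exacts [rz, r2, ebraid 0 1 rfl, ebraid 1 2 rfl, ebraid 2 3 rfl]
    · rw [hXi i (by omega), hXi j hj]
      refine Prod.ext ?_ (Subtype.ext (a3 _ _ hij))
      have key : ∀ a b : Fin 6, a.val + 1 < b.val → gG a * gG b * (gG a * gG b) = 1 := by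
        intro a b hab
        fin_cases a <;> fin_cases b <;>
          first
            | exact absurd hab (by decide)
            | exact einv 0
            | exact einv 1
            | exact einv 2
            | exact einv 3
            | exact rfar r3 (esq 1)
            | exact rfar r4 (esq 2)
            | exact rfar r5 (esq 3)
            | exact ecomm 0 2 (by decide)
            | exact ecomm 0 3 (by decide)
            | exact ecomm 1 3 (by decide)
      exact key ⟨i, by omega⟩ ⟨j, hj⟩ hij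
  obtain ⟨hfin, hcard⟩ := card_gen hR 6 le_rfl
  haveI := hfin
  set π : gen X 6 →* alternatingGroup (Fin 8) := (MonoidHom.snd G _).comp (gen X 6).subtype with hπ
  have hsurj : Function.Surjective π := by
    rw [← MonoidHom.range_eq_top, eq_top_iff]
    intro a _
    have hle : closure (Set.range gA) ≤ π.range.map (alternatingGroup (Fin 8)).subtype := by
      rw [closure_le]
      rintro _ ⟨i, rfl⟩
      refine ⟨⟨gA i, gA_sign i⟩, ⟨⟨X i.val, mem_gen i.isLt⟩, ?_⟩, rfl⟩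
      show (X i.val).2 = _
      rw [hXi i.val i.isLt]
    obtain ⟨a', ha', e⟩ := hle (alt_le_gen a.2)
    rwa [show a = a' from Subtype.ext e.symm]
  have hA : Nat.card (alternatingGroup (Fin 8)) = 20160 := by
    have := two_mul_nat_card_alternatingGroup (α := Fin 8)
    rw [Nat.card_perm, Nat.card_fin, show Nat.factorial 8 = 40320 by decide] at this
    omega
  have hbij : Function.Bijective π := by
    refine (Nat.bijective_iff_surjective_and_card _).2 ⟨hsurj, ?_⟩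
    have := Nat.card_le_card_of_surjective π hsurj
    rw [show Nat.factorial (6 + 2) = 40320 by decide] at hcard
    rw [hA] at this ⊢
    omega
  set ψ : alternatingGroup (Fin 8) →* G :=
    (MonoidHom.fst G _).comp ((gen X 6).subtype.comp (MulEquiv.ofBijective π hbij).symm.toMonoidHom) with hψ
  have hψg : ∀ i : Fin 6, ψ ⟨gA i, gA_sign i⟩ = gG i := by
    intro i
    have e : (MulEquiv.ofBijective π hbij).symm ⟨gA i, gA_sign i⟩ = ⟨X i.val, mem_gen i.isLt⟩ := by
      rw [MulEquiv.symm_apply_eq]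
      show _ = (X i.val).2
      rw [hXi i.val i.isLt]
    show (((MulEquiv.ofBijective π hbij).symm ⟨gA i, gA_sign i⟩).val).1 = _
    rw [e]
    exact congrArg Prod.fst (hXi i.val i.isLt)
  haveI : IsSimpleGroup (alternatingGroup (Fin 8)) :=
    alternatingGroup.isSimpleGroup (by rw [Nat.card_fin]; norm_num)
  have hinj : Function.Injective ψ := by
    rw [← MonoidHom.ker_eq_bot_iff]
    refine (ψ.normal_ker.eq_bot_or_eq_top).resolve_right fun e => ?_
    have : ψ ⟨gA 0, gA_sign 0⟩ = 1 := by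
      rw [← MonoidHom.mem_ker, e]; trivial
    rw [hψg] at this
    exact h.z_ne_one this
  set S : Set Pair := {p | ∃ hp : iota p ∈ alternatingGroup (Fin 8), Ev p ∧ ψ ⟨iota p, hp⟩ = h.e p} with hS
  have Smul : ∀ p q, p ∈ S → q ∈ S → p * q ∈ S := by
    rintro p q ⟨hp, evp, ep⟩ ⟨hq, evq, eq⟩
    refine ⟨by rw [map_mul]; exact mul_mem hp hq, ev_mul evp evq, ?_⟩
    rw [Data.e, toG_mul h.φ evp evq, show toG h.φ p = _ from ep.symm, show toG h.φ q = _ from eq.symm]
    exact (congrArg ψ (Subtype.ext (map_mul iota p q) : (⟨iota (p * q), _⟩ : alternatingGroup (Fin 8)) =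
      ⟨iota p, hp⟩ * ⟨iota q, hq⟩)).trans (map_mul ψ _ _)
  have hiota : ∀ p, Ev p → iota p ∈ alternatingGroup (Fin 8) := fun p hp => by
    rw [Perm.mem_alternatingGroup, sign_iota]; exact hp
  have Spz : pz ∈ S := by
    refine ⟨hiota _ ev_pz, ev_pz, ?_⟩
    rw [show (⟨iota pz, hiota _ ev_pz⟩ : alternatingGroup (Fin 8)) = ⟨gA 0, gA_sign 0⟩ from
      Subtype.ext gA_iota.1, hψg]
    rfl
  have Spx : ∀ i, px i ∈ S := by
    intro i
    refine ⟨hiota _ (ev_px i), ev_px i, ?_⟩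
    rw [show (⟨iota (px i), hiota _ (ev_px i)⟩ : alternatingGroup (Fin 8)) =
      ⟨gA ⟨i.val + 2, by omega⟩, gA_sign _⟩ from Subtype.ext (gA_iota.2 i), hψg]
    fin_cases i <;> rfl
  obtain ⟨ew, ev', eu, em'⟩ : pw = px 2 * px 3 ∧ pv = px 1 * px 3 ∧
      pu = px 1 * px 2 * px 3 * px 2 * px 1 * px 2 ∧ pm = pz * pw := by decide +kernel
  have Spw : pw ∈ S := ew ▸ Smul _ _ (Spx 2) (Spx 3)
  refine ⟨⟨ψ, hinj, ?_, ?_⟩⟩
  · intro p hp hmem
    have hpS : p ∈ S := by
      simp only [Finset.mem_insert, Finset.mem_singleton] at hp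
      rcases hp with rfl | rfl | rfl | rfl | rfl
      · exact Spz
      · exact Spw
      · exact em' ▸ Smul _ _ Spz Spw
      · exact eu ▸ Smul _ _ (Smul _ _ (Smul _ _ (Smul _ _ (Smul _ _ (Spx 1) (Spx 2)) (Spx 3)) (Spx 2)) (Spx 1)) (Spx 2)
      · exact ev' ▸ Smul _ _ (Spx 1) (Spx 3)
    obtain ⟨hp', -, e⟩ := hpS
    exact e
  · -- by counting
    obtain ⟨_, -, ez⟩ := Spz
    let f : L0 →* G := ψ.comp ((iota.comp L0.subtype).codRestrict (alternatingGroup (Fin 8))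
      fun p => hiota _ (ev_iff.1 p.2))
    have hf : Function.Injective f := hinj.comp fun a b hab =>
      Subtype.ext (iota_injective (congrArg Subtype.val hab))
    have hfle : f.range ≤ h.φ.range := by
      rintro _ ⟨⟨p, hp⟩, rfl⟩
      have hp' := ev_iff.1 hp
      have hc : f ⟨p, hp⟩ * h.z * (f ⟨p, hp⟩)⁻¹ = h.z ∨ f ⟨p, hp⟩ * h.z * (f ⟨p, hp⟩)⁻¹ = h.z⁻¹ := by
        have key : f ⟨p, hp⟩ * h.z * (f ⟨p, hp⟩)⁻¹ = f (⟨p, hp⟩ * ⟨pz, ev_iff.2 ev_pz⟩ * ⟨p, hp⟩⁻¹) := by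
          rw [map_mul, map_mul, map_inv, show f ⟨pz, ev_iff.2 ev_pz⟩ = h.z from ez]
        rcases normNine_pz p hp' with e | e
        · exact Or.inl (by rw [key, show (⟨p, hp⟩ * ⟨pz, ev_iff.2 ev_pz⟩ * ⟨p, hp⟩⁻¹ : L0) = ⟨pz, ev_iff.2 ev_pz⟩
            from Subtype.ext e]; exact ez)
        · refine Or.inr ?_
          rw [key, show (⟨p, hp⟩ * ⟨pz, ev_iff.2 ev_pz⟩ * ⟨p, hp⟩⁻¹ : L0) = ⟨pz, ev_iff.2 ev_pz⟩ * ⟨pz, ev_iff.2 ev_pz⟩
            from Subtype.ext e, map_mul, show f ⟨pz, ev_iff.2 ev_pz⟩ = h.z from ez]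
          exact eq_inv_of_mul_eq_one_left h.z_pow_three
      obtain ⟨q, hq, he⟩ := h.exists_of_normalizes hc
      rw [← he]
      exact toG_mem_range h.φ hq
    have heq : f.range = h.φ.range := by
      refine eq_of_le_of_card_ge hfle ?_
      rw [Nat.card_congr (MonoidHom.ofInjective hf).toEquiv.symm,
        Nat.card_congr (MonoidHom.ofInjective h.inj).toEquiv.symm]
    rw [← heq]
    rintro _ ⟨p, rfl⟩
    exact ⟨_, rfl⟩

end Data

end CfsgLib.Recog.EightThree
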