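import Cfsg.Agent.Lib.Recog.EightThree.Start
import Cfsg.Agent.Lib.Recog.EightThree.CentT

/-!
Owner: helper10. The 3-local characterisation of `A₈`: the embedded `A₈` is the whole group.
-/

set_option autoImplicit false
set_option linter.all false

namespace CfsgLib.Recog.EightThree

open Subgroup Equiv

universe u

variable {G : Type u} [Group G] [Finite G] {h : Data G}

namespace Emb

variable (E : Emb h)

theorem range_eq_top : E.H = ⊤ := by
  classical
  refine eq_top_iff.2 fun g _ => ?_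
  obtain ⟨s1, -, -, -, -, s6, -⟩ := signs
  obtain ⟨u2, -, u1, -⟩ := around_u
  obtain ⟨-, -, t2, t1, -⟩ := T8_conj
  set u := E.f U8
  set t := E.f T8
  have hu2 : u * u = 1 := E.f_sq s1 u2
  have ht2 : t * t = 1 := E.f_sq s6 t2
  set x := g * t * g⁻¹ with hx
  have hx2 : x * x = 1 := by
    rw [hx, show g * t * g⁻¹ * (g * t * g⁻¹) = g * (t * t) * g⁻¹ by group, ht2, mul_one, mul_inv_cancel]
  have hx1 : x ≠ 1 := fun e => E.f_ne_one s6 t1 (conj_eq_one_iff.1 e)
  -- it is enough that `x` lies inside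
  suffices hxH : x ∈ E.H by
    obtain ⟨y, hy, hye, h'⟩ := E.class_cases hxH hx2 hx1
    rcases h' with ⟨⟨k, -, hk⟩, -⟩ | ⟨⟨k, hk, hke⟩, -⟩
    · exact absurd (show g⁻¹ * k * u * (g⁻¹ * k)⁻¹ = t by
        rw [show g⁻¹ * k * u * (g⁻¹ * k)⁻¹ = g⁻¹ * (k * u * k⁻¹) * g by group, hk, hx]; group) (E.not_fused _)
    · have hc : Commute (k⁻¹ * g) t := by
        show _ = _
        calc k⁻¹ * g * t = k⁻¹ * (g * t * g⁻¹) * g := by group
          _ = k⁻¹ * (k * t * k⁻¹) * g := by rw [hke]
          _ = t * (k⁻¹ * g) := by group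
      have := mul_mem hk (E.centralizer_t_le hc)
      rwa [mul_inv_cancel_left] at this
  set k := u * x with hk
  have hui : u⁻¹ = u := inv_eq_of_mul_eq_one_left hu2
  have hxi : x⁻¹ = x := inv_eq_of_mul_eq_one_left hx2
  have hki : u * k * u = k⁻¹ := by
    rw [hk, mul_inv_rev, hui, hxi, show u * (u * x) * u = (u * u) * x * u by group, hu2, one_mul]
  have hukp : ∀ n : ℕ, u * k ^ n * u = (k ^ n)⁻¹ := by
    intro n
    rw [← inv_pow, ← hki]
    have := (conj_pow (a := u) (b := k) (i := n)).symm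
    rwa [hui] at this
  rcases Nat.even_or_odd (orderOf k) with ⟨j, hj⟩ | ⟨j, hj⟩
  · have hpos := orderOf_pos k
    set w := k ^ j with hw
    have hw1 : w ≠ 1 := pow_ne_one_of_lt_orderOf (by omega) (by omega)
    have hw2 : w * w = 1 := by rw [hw, ← pow_add, ← hj, pow_orderOf_eq_one]
    have hwu : Commute w u := by
      have := hukp j
      rw [inv_eq_of_mul_eq_one_left hw2] at this
      show _ = _
      calc w * u = (u * u) * w * u := by rw [hu2, one_mul]
        _ = u * (u * w * u) := by group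
        _ = u * w := by rw [this]
    have hwx : Commute w x := by
      have hwk : Commute w k := (Commute.refl k).pow_left j
      have := (hwu.mul_right hwk : Commute w (u * k))
      rwa [hk, ← mul_assoc, hu2, one_mul] at this
    have hwH := E.centralizer_u_le hwu
    obtain ⟨y, hy, hye, h'⟩ := E.class_cases hwH hw2 hw1
    rcases h' with ⟨⟨c, hc, hce⟩, -⟩ | ⟨⟨c, hc, hce⟩, -⟩
    · have hcom : Commute (c⁻¹ * x * c) u := by
        have h0 : Commute x (c * u * c⁻¹) := hce ▸ hwx.symm
        show _ = _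
        calc c⁻¹ * x * c * u = c⁻¹ * (x * (c * u * c⁻¹)) * c := by group
          _ = c⁻¹ * ((c * u * c⁻¹) * x) * c := by rw [h0.eq]
          _ = u * (c⁻¹ * x * c) := by group
      have := mul_mem (mul_mem hc (E.centralizer_u_le hcom)) (inv_mem hc)
      rwa [show c * (c⁻¹ * x * c) * c⁻¹ = x by group] at this
    · have hcom : Commute (c⁻¹ * x * c) t := by
        have h0 : Commute x (c * t * c⁻¹) := hce ▸ hwx.symm
        show _ = _
        calc c⁻¹ * x * c * t = c⁻¹ * (x * (c * t * c⁻¹)) * c := by group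
          _ = c⁻¹ * ((c * t * c⁻¹) * x) * c := by rw [h0.eq]
          _ = t * (c⁻¹ * x * c) := by group
      have := mul_mem (mul_mem hc (E.centralizer_t_le hcom)) (inv_mem hc)
      rwa [show c * (c⁻¹ * x * c) * c⁻¹ = x by group] at this
  · exfalso
    refine E.not_fused (g⁻¹ * k ^ j) ?_
    rw [show g⁻¹ * k ^ j * u * (g⁻¹ * k ^ j)⁻¹ = g⁻¹ * (k ^ j * u * (k ^ j)⁻¹) * g by group, ← hukp j]
    have h1 : k ^ j * u * (u * k ^ j * u) = k ^ j * k ^ j * u := by
      calc k ^ j * u * (u * k ^ j * u) = k ^ j * (u * u) * k ^ j * u := by group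
        _ = k ^ j * k ^ j * u := by rw [hu2, mul_one]
    have h2 : k ^ j * k ^ j = k⁻¹ := by
      refine eq_inv_of_mul_eq_one_left ?_
      rw [← pow_add, ← pow_succ, show j + j + 1 = 2 * j + 1 by omega, ← hj, pow_orderOf_eq_one]
    rw [h1, h2, hk, mul_inv_rev, hui, hxi, mul_assoc x, hu2, mul_one, hx]
    group
    rfl

end Emb

/-- The characterisation. -/
theorem nonempty_mulEquiv (P : Sylow 3 G) (D : Subgroup G) (hDP : D = P) (y z : G)
    (hgen : closure {y, z} = D) (hcard : Nat.card D = 9) (hexp : ∀ a ∈ D, a ^ 3 = 1)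
    (hN : Nat.card (normalizer (D : Set G)) = 72)
    (hycard : Nat.card (centralizer ({y} : Set G)) = 18)
    (eL : normalizer (zpowers z : Set G) ≃* L0) : Nonempty (G ≃* alternatingGroup (Fin 8)) := by
  obtain ⟨h⟩ := exists_data P D hDP y z hgen hcard hexp hN hycard eL
  obtain ⟨E⟩ := h.nonempty_emb
  exact ⟨(MulEquiv.ofBijective E.ψ ⟨E.inj, MonoidHom.range_eq_top.1 E.range_eq_top⟩).symm⟩

end CfsgLib.Recog.EightThree
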