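import Mathlib
import Cfsg.Agent.Lib.Recog.AltPresentation

/-!
Owner: helper10. Computations in `S₃ × S₅`, in `A₅` and in `A₈` for the 3-local characterisation of `A₈`.

`S₃ × S₅` sits in `S₈` as the stabiliser of `{0, 1, 2}`; `iota` is the embedding.
-/

set_option autoImplicit false
set_option linter.all false
set_option synthInstance.maxSize 1000
set_option maxRecDepth 8000

namespace CfsgLib.Recog.EightThree

open Equiv

abbrev S3 := Perm (Fin 3)
abbrev S5 := Perm (Fin 5)
abbrev S8 := Perm (Fin 8)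
abbrev Pair := S3 × S5

/-- The kernel of the product of the two signs. -/
abbrev L0 : Subgroup Pair :=
  (((Equiv.Perm.sign).comp (MonoidHom.fst (Equiv.Perm (Fin 3)) (Equiv.Perm (Fin 5)))) *
    ((Equiv.Perm.sign).comp (MonoidHom.snd (Equiv.Perm (Fin 3)) (Equiv.Perm (Fin 5))))).ker

/-- Membership in `L0`, in decidable form. -/
def Ev (p : Pair) : Prop := Perm.sign p.1 * Perm.sign p.2 = 1

instance : DecidablePred Ev := fun p => inferInstanceAs (Decidable (_ = _))

theorem ev_iff {p : Pair} : p ∈ L0 ↔ Ev p := by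
  rw [MonoidHom.mem_ker]; rfl

theorem ev_mul {p q : Pair} (hp : Ev p) (hq : Ev q) : Ev (p * q) := ev_iff.1 (mul_mem (ev_iff.2 hp) (ev_iff.2 hq))

theorem ev_inv {p : Pair} (hp : Ev p) : Ev p⁻¹ := ev_iff.1 (inv_mem (ev_iff.2 hp))

theorem ev_one : Ev 1 := ev_iff.1 (one_mem _)

/-- The three-cycle of `S₃`. -/
def c3 : S3 := swap 0 1 * swap 1 2
/-- A transposition of `S₃`. -/
def s3 : S3 := swap 0 1
/-- The three-cycle `(2 3 4)` of `S₅`. -/
def W : S5 := swap 2 3 * swap 3 4

/-- The central element of the first factor. -/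
def pz : Pair := (c3, 1)
/-- The pure element of the second factor. -/
def pw : Pair := (1, W)
/-- A mixed element. -/
def pm : Pair := (c3, W)
/-- The involutions `x₂, x₃, x₄, x₅`. -/
def px (i : Fin 4) : Pair := (s3, swap i.castSucc i.succ)
/-- Three involutions forming, with the identity, a four group fixing the point `0`. -/
def pu : Pair := (1, swap 1 4 * swap 2 3)
def pv : Pair := (1, swap 1 2 * swap 3 4)
/-- An element of the second factor inverting `W` and fixing `pz`. -/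
def pf : Pair := (1, swap 0 1 * swap 2 3)
/-- An element inverting both. -/
def pb : Pair := (s3, swap 2 3)

theorem ev_pz : Ev pz := by decide +kernel
theorem ev_pw : Ev pw := by decide +kernel
theorem ev_pm : Ev pm := by decide +kernel
theorem ev_px : ∀ i, Ev (px i) := by decide +kernel
theorem ev_pu : Ev pu := by decide +kernel
theorem ev_pv : Ev pv := by decide +kernel
theorem ev_pf : Ev pf := by decide +kernel
theorem ev_pb : Ev pb := by decide +kernel

/-- Elements of `⟨pz, pw⟩`. -/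
def nine : Finset Pair :=
  ({1, c3, c3 * c3} : Finset S3) ×ˢ ({1, W, W * W} : Finset S5)

/-- The two pure lines and the four mixed elements. -/
def zline : Finset Pair := {pz, pz * pz}
def wline : Finset Pair := {pw, pw * pw}
def mixed : Finset Pair := {pm, pm * pm, (c3, W * W), (c3 * c3, W)}

theorem ev_nine : ∀ p ∈ nine, Ev p := by decide +kernel

theorem nine_card : nine.card = 9 := by decide +kernel

theorem nine_mul : ∀ p ∈ nine, ∀ q ∈ nine, p * q ∈ nine ∧ p * q = q * p := by decide +kernel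

theorem nine_cases : ∀ p ∈ nine, p = 1 ∨ p ∈ zline ∨ p ∈ wline ∨ p ∈ mixed := by decide +kernel

theorem nine_gens : ∀ p ∈ nine, p = 1 ∨ p = pz ∨ p = pz * pz ∨ p = pw ∨ p = pw * pw ∨ p = pz * pw ∨
    p = pz * pz * pw ∨ p = pz * (pw * pw) ∨ p = pz * pz * (pw * pw) := by decide +kernel

theorem centralize_nine : ∀ p : Pair, Ev p → p * pz = pz * p → p * pw = pw * p → p ∈ nine := by decide +kernel

theorem commute_pz : ∀ a : S3, a * c3 = c3 * a → a = 1 ∨ a = c3 ∨ a = c3 * c3 := by decide +kernel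

theorem invert_c3 : ∀ a : S3, a * c3 * a⁻¹ = c3⁻¹ → Perm.sign a = -1 := by decide +kernel

theorem fix_c3 : ∀ a : S3, a * c3 = c3 * a → a * a = 1 → a = 1 := by decide +kernel

theorem sign_commute_c3 : ∀ a : S3, a * c3 = c3 * a → Perm.sign a = 1 ∧ a * a * a = 1 := by decide +kernel

theorem count_centralizer :
    (Finset.univ.filter fun p : Pair => Ev p ∧ p * pz = pz * p).card = 180 := by decide +kernel

theorem count_all : (Finset.univ.filter fun p : Pair => Ev p).card = 360 := by decide +kernel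

/-- `p` normalises `⟨pz, pw⟩`. -/
def NormNine (p : Pair) : Prop := Ev p ∧ p * pz * p⁻¹ ∈ nine ∧ p * pw * p⁻¹ ∈ nine

instance : DecidablePred NormNine := fun p => inferInstanceAs (Decidable (_ ∧ _))

theorem count_normNine : (Finset.univ.filter NormNine).card = 36 := by decide +kernel

theorem normNine_pz : ∀ p : Pair, Ev p → (p * pz * p⁻¹ = pz ∨ p * pz * p⁻¹ = pz * pz) := by decide +kernel

theorem normNine_pf : NormNine pf := by decide +kernel

theorem pf_moves : ∀ p ∈ mixed, pf * p * pf⁻¹ ≠ p ∧ pf * p * pf⁻¹ ≠ p * p := by decide +kernel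

theorem mixed_link : ∀ p ∈ mixed, p = pm ∨ p = pf * pm * pf⁻¹ ∨ p = pm⁻¹ ∨ p = (pf * pm * pf⁻¹)⁻¹ := by
  decide +kernel

theorem zline_wline_link : (∀ p ∈ zline, p = pz ∨ p = pz⁻¹) ∧ (∀ p ∈ wline, p = pw ∨ p = pw⁻¹) ∧
    pf * pz * pf⁻¹ = pz ∧ pf * pw * pf⁻¹ = pw⁻¹ ∧ pb * pz * pb⁻¹ = pz⁻¹ ∧ pb * pw * pb⁻¹ = pw⁻¹ := by
  decide +kernel

/-- An element of order three generating a normal subgroup of `L0` lies in the first factor. -/
theorem normal_three : ∀ p : Pair, p * p * p = 1 → p ≠ 1 →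
    (∀ q ∈ ({(1, finRotate 5), (1, swap 0 1 * swap 2 3)} : Finset Pair), q * p * q⁻¹ = p ∨ q * p * q⁻¹ = p * p) →
    p ∈ zline := by decide +kernel

theorem ev_normal_three_gens :
    ∀ q ∈ ({(1, finRotate 5), (1, swap 0 1 * swap 2 3)} : Finset Pair), Ev q := by decide +kernel

/-! ### Facts inside the second factor -/

/-- Cube nontrivial unless trivial. -/
def N3 (b : S5) : Prop := b = 1 ∨ b * b * b ≠ 1

instance : DecidablePred N3 := fun b => inferInstanceAs (Decidable (_ ∨ _))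

/-- An involution which with `W` generates a copy of `A₄`. -/
def C3 (b : S5) : Prop :=
  b * b = 1 ∧ W * b * (W * b) * (W * b) = 1 ∧ b * (W * b * W⁻¹) = (W * b * W⁻¹) * b

instance : DecidablePred C3 := fun b => inferInstanceAs (Decidable (_ ∧ _))

theorem factA : ∀ b : S5, Perm.sign b = 1 → N3 b → N3 (b * (W * b * W⁻¹)) → N3 (b * (W * b * W⁻¹)⁻¹) →
    N3 (b * (W⁻¹ * b * W)) → N3 (b * (W * b * W⁻¹) * b * (W⁻¹ * b * W)) → b = 1 ∨ C3 b := by decide +kernel

/-- An odd involution inverting `W`. -/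
def Q (q : S5) : Prop := Perm.sign q = -1 ∧ q * q = 1 ∧ q * W * q = W⁻¹

instance : DecidablePred Q := fun b => inferInstanceAs (Decidable (_ ∧ _))

theorem factB : ∀ q : S5, Q q →
    ∀ b : S5, Perm.sign b = 1 → b ≠ 1 → C3 b → N3 ((q * b * q) * b) →
    (q * b * q = b ∨ q * (W * b * W⁻¹) * q = W * b * W⁻¹ ∨ q * (W⁻¹ * b * W) * q = W⁻¹ * b * W) := by
  decide +kernel

theorem factC : ∀ q : S5, Q q → ∀ a : S5, Perm.sign a = 1 ∧ a * a = 1 → a * W * a = W⁻¹ → a * q = q * a →
    ∀ b : S5, Perm.sign b = 1 ∧ b ≠ 1 → C3 b → q * b * q = b → b * a * (b * a) * (b * a) = 1 := by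
  decide +kernel

/-- Elements centralising `⟨pu, pv⟩` in `L0`. -/
theorem centralize_four : ∀ p : Pair, Ev p → p * pu = pu * p → p * pv = pv * p →
    (p.1 = 1 ∨ p.1 = c3 ∨ p.1 = c3 * c3) ∧ p.2 ∈ ({1, pu.2, pv.2, pu.2 * pv.2} : Finset S5) := by decide +kernel

theorem px_four : ∀ i : Fin 4, i ≠ 0 → ∀ v ∈ ({pu, pv, pu * pv} : Finset Pair),
    px i * v * (px i)⁻¹ ∈ ({pu, pv, pu * pv} : Finset Pair) := by decide +kernel

theorem pw_four : ∀ v ∈ ({pu, pv, pu * pv} : Finset Pair),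
    pw * v * pw⁻¹ ∈ ({pu, pv, pu * pv} : Finset Pair) ∧ pw⁻¹ * v * pw ∈ ({pu, pv, pu * pv} : Finset Pair) ∧
    pz * v = v * pz := by decide +kernel

/-- The twelve elements of the alternating group on `{1, 2, 3, 4}`. -/
def four12 : Finset S5 :=
  (({1, pu.2, pv.2, pu.2 * pv.2} : Finset S5) ×ˢ ({1, W, W * W} : Finset S5)).image fun q => q.1 * q.2

theorem px_products : (px 1 * px 2).2 ∈ four12 ∧ (px 2 * px 3).2 ∈ four12 ∧
    (px 1 * px 2).1 = 1 ∧ (px 2 * px 3).1 = 1 := by decide +kernel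

theorem px_relations :
    (∀ i, px i * px i = 1 ∧ px i * pz * (px i)⁻¹ = pz⁻¹) ∧
    (∀ i j : Fin 4, j.val = i.val + 1 → px i * px j * (px i * px j) * (px i * px j) = 1) ∧
    (∀ i j : Fin 4, i.val + 1 < j.val → px i * px j = px j * px i) ∧
    px 0 * pw = pw * px 0 ∧ px 2 * pw * (px 2)⁻¹ = pw⁻¹ := by decide +kernel

/-- The list of the eight elements of a dihedral group inside `L0`. -/
def eight : Finset Pair :=
  {1, pu, pv, pu * pv, px 2, px 2 * pu, px 2 * pv, px 2 * (pu * pv)}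

theorem eight_facts : (∀ p ∈ eight, Ev p) ∧ eight.card = 8 ∧ (∀ p ∈ eight, ∀ q ∈ eight, p * q ∈ eight) ∧
    (∀ p ∈ eight, (∀ q ∈ eight, p * q = q * p) → p = 1 ∨ p = pu) := by decide +kernel

/-- Each involution of `eight` is linked to an involution of the second factor. -/
theorem eight_link : ∀ p ∈ eight, p * p = 1 → p ≠ 1 →
    (p.1 = 1 ∧ Perm.sign p.2 = 1) ∨
      ∃ h : S5, Perm.sign h = 1 ∧ p.2 * (h * W * h⁻¹) = (h * W * h⁻¹) * p.2 := by decide +kernel

theorem invol_conj_pu : ∀ b : S5, Perm.sign b = 1 → b * b = 1 → b ≠ 1 →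
    ∃ h : S5, Perm.sign h = 1 ∧ h * pu.2 * h⁻¹ = b := by decide +kernel

theorem four_orders : ∀ v ∈ ({pu, pv, pu * pv} : Finset Pair), v * v = 1 ∧ v ≠ 1 := by decide +kernel

end CfsgLib.Recog.EightThree
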