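import Cfsg.Agent.Lib.Recog.EightThree.Model

/-!
Owner: helper10. Computations in `A₈` for the 3-local characterisation.
-/

set_option autoImplicit false
set_option linter.all false
set_option synthInstance.maxSize 1000
set_option maxRecDepth 8000
set_option maxHeartbeats 800000

namespace CfsgLib.Recog.EightThree

open Equiv

/-- The stabiliser of `{0, 1, 2}`. -/
def iota : Pair →* S8 :=
  ((finSumFinEquiv (m := 3) (n := 5)).permCongrHom).toMonoidHom.comp (Perm.sumCongrHom (Fin 3) (Fin 5))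

theorem iota_injective : Function.Injective iota :=
  (finSumFinEquiv.permCongrHom).injective.comp Perm.sumCongrHom_injective

theorem sign_iota (p : Pair) : Perm.sign (iota p) = Perm.sign p.1 * Perm.sign p.2 := by
  show Perm.sign ((finSumFinEquiv (m := 3) (n := 5)).permCongr (Equiv.sumCongr p.1 p.2)) = _
  rw [Perm.sign_permCongr, Perm.sign_sumCongr]

/-- The Moore generators of `A₈`. -/
def gA : Fin 6 → S8 :=
  ![swap 0 1 * swap 1 2, swap 0 1 * swap 2 3, swap 0 1 * swap 3 4, swap 0 1 * swap 4 5,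
    swap 0 1 * swap 5 6, swap 0 1 * swap 6 7]

theorem gA_iota : iota pz = gA 0 ∧ ∀ i : Fin 4, iota (px i) = gA ⟨i.val + 2, by omega⟩ := by decide +kernel

theorem gA_sign : ∀ i, Perm.sign (gA i) = 1 := by decide +kernel

theorem gA_rels : gA 0 * gA 0 * gA 0 = 1 ∧ (∀ i : Fin 6, 1 ≤ i.val → gA i * gA i = 1) ∧
    (∀ i j : Fin 6, j.val = i.val + 1 → gA i * gA j * (gA i * gA j) * (gA i * gA j) = 1) ∧
    (∀ i j : Fin 6, i.val + 1 < j.val → gA i * gA j * (gA i * gA j) = 1) := by decide +kernel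

theorem swap_times : ∀ i : Fin 6, (swap i.succ.castSucc i.succ.succ : S8) * swap 0 1 =
    if i.val = 0 then gA 0 * gA 0 else gA i := by decide +kernel

theorem conj_gA : ∀ i : Fin 6,
    swap 0 1 * gA i * swap 0 1 = if i.val = 0 then gA 0 * gA 0 else gA i := by decide +kernel

def U8 : S8 := iota pu
def V8 : S8 := iota pv
def Z8 : S8 := iota pz
def W8 : S8 := iota pw
def M8 : S8 := iota pm
def T8 : S8 := swap 0 5 * swap 1 6 * (swap 2 7 * swap 3 4)
/-- An involution swapping `V8` and `U8 * V8`. -/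
def N8 : S8 := swap 0 1 * swap 5 6
def E1 : S8 := swap 0 1 * swap 2 3
def E2 : S8 := swap 0 2 * swap 1 3
def K8 : S8 := swap 0 4 * swap 1 5 * (swap 2 6 * swap 3 7)
def A8' : S8 := swap 1 6 * swap 2 7
def I8 : S8 := swap 1 2 * swap 6 7

theorem W8_product : W8 = gA 4 * gA 5 ∨ W8 = (gA 4 * gA 5)⁻¹ := by decide +kernel

theorem signs : Perm.sign U8 = 1 ∧ Perm.sign V8 = 1 ∧ Perm.sign Z8 = 1 ∧ Perm.sign W8 = 1 ∧ Perm.sign M8 = 1 ∧
    Perm.sign T8 = 1 ∧ Perm.sign N8 = 1 ∧ Perm.sign E1 = 1 ∧ Perm.sign E2 = 1 ∧ Perm.sign K8 = 1 ∧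
    Perm.sign A8' = 1 ∧ Perm.sign I8 = 1 := by decide +kernel

theorem T8_conj : T8 * Z8 * T8⁻¹ = W8 ∧ T8 * M8 = M8 * T8 ∧ T8 * T8 = 1 ∧ T8 ≠ 1 ∧ M8 * M8 * M8 = 1 := by
  decide +kernel

theorem around_u : U8 * U8 = 1 ∧ V8 * V8 = 1 ∧ U8 ≠ 1 ∧ U8 * V8 = V8 * U8 ∧
    N8 * U8 = U8 * N8 ∧ N8 * V8 * N8⁻¹ = U8 * V8 ∧ N8 * N8 = 1 ∧ Z8 * U8 = U8 * Z8 ∧ Z8 * V8 = V8 * Z8 ∧
    E1 * U8 = U8 * E1 ∧ E2 * U8 = U8 * E2 ∧ E1 * V8 = V8 * E1 ∧ E2 * V8 = V8 * E2 := by decide +kernel

theorem four_prime : E1 * E1 = 1 ∧ E2 * E2 = 1 ∧ E1 * E2 = E2 * E1 ∧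
    Z8 * E1 * Z8⁻¹ * E1 * (Z8 * E1 * Z8⁻¹ * E1) = 1 ∧ Z8 * E1 * Z8⁻¹ * E1 ≠ 1 ∧
    Z8 * E1 * Z8⁻¹ ∈ [E2, E1 * E2] ∧
    Z8 * Z8 * E1 * (Z8 * Z8)⁻¹ ∈ [E2, E1 * E2] ∧
    Z8 * E1 * Z8⁻¹ ≠ Z8 * Z8 * E1 * (Z8 * Z8)⁻¹ ∧
    E1 ∈ [K8 * U8 * K8⁻¹, K8 * V8 * K8⁻¹, K8 * (U8 * V8) * K8⁻¹] ∧
    E2 ∈ [K8 * U8 * K8⁻¹, K8 * V8 * K8⁻¹, K8 * (U8 * V8) * K8⁻¹] ∧
    K8 * U8 * K8⁻¹ ∈ [E1, E2, E1 * E2] ∧ K8 * V8 * K8⁻¹ ∈ [E1, E2, E1 * E2] := by decide +kernel

theorem around_t : A8' * T8 = T8 * A8' ∧ I8 * T8 = T8 * I8 ∧ A8' * A8' = 1 ∧ I8 * I8 = 1 ∧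
    I8 * M8 * I8⁻¹ = M8⁻¹ ∧ A8' * I8 = I8 * A8' ∧
    A8' * (M8 * A8' * M8⁻¹) * (M8 * M8 * A8' * (M8 * M8)⁻¹) = 1 ∧ A8' ≠ 1 ∧ A8' ≠ T8 := by decide +kernel

theorem nine_low : (∀ p ∈ nine, (iota p 0).val < 3) ∧ ∀ j : Fin 8, j.val < 3 → 3 ≤ (T8 j).val := by
  decide +kernel

/-- A 2-group of order 32 centralising `T8`. -/
def p32 (b : Fin 32) : S8 :=
  (if b.val % 2 = 1 then swap 0 5 * swap 1 6 else 1) * (if b.val / 2 % 2 = 1 then swap 1 6 * swap 2 7 else 1) *
    (if b.val / 4 % 2 = 1 then swap 2 7 * swap 3 4 else 1) *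
    (if b.val / 8 % 2 = 1 then swap 0 1 * swap 5 6 * (swap 2 3 * swap 4 7) else 1) *
    (if b.val / 16 % 2 = 1 then swap 0 2 * swap 5 7 * (swap 1 3 * swap 4 6) else 1)

/-- A code for a permutation of eight points. -/
def code (x : S8) : ℕ := (List.finRange 8).foldl (fun acc i => acc * 8 + (x i).val) 0

theorem code_injective : ∀ {x y : S8}, code x = code y → x = y := by
  intro x y h
  simp only [code, List.finRange_succ, List.finRange_zero, List.map_cons, List.map_nil, List.foldl_cons,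
    List.foldl_nil] at h
  have hb : ∀ (z : S8) (i : Fin 8), (z i).val < 8 := fun z i => (z i).isLt
  refine Equiv.ext fun i => Fin.ext ?_
  have := hb x 0; have := hb x 1; have := hb x 2; have := hb x 3
  have := hb x 4; have := hb x 5; have := hb x 6; have := hb x 7
  have := hb y 0; have := hb y 1; have := hb y 2; have := hb y 3
  have := hb y 4; have := hb y 5; have := hb y 6; have := hb y 7
  fin_cases i <;> simp at h ⊢ <;> omega

theorem p32_code : ((List.finRange 32).map fun b => code (p32 b)).Nodup := by decide +kernel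

theorem p32_mul_code : ∀ b c : Fin 32, code (p32 b * p32 c) ∈ (List.finRange 32).map fun d => code (p32 d) := by
  decide +kernel

theorem p32_comm : ∀ b : Fin 32, code (p32 b * T8) = code (T8 * p32 b) := by decide +kernel

theorem sign_p32 (b : Fin 32) : Perm.sign (p32 b) = 1 := by
  have hsw : ∀ p q : Fin 8, p ≠ q → Perm.sign (swap p q : S8) = -1 := fun p q h => Perm.sign_swap h
  simp only [p32, map_mul, apply_ite Perm.sign, hsw (0 : Fin 8) 5 (by decide), hsw (1 : Fin 8) 6 (by decide),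
    hsw (2 : Fin 8) 7 (by decide), hsw (3 : Fin 8) 4 (by decide), hsw (0 : Fin 8) 1 (by decide),
    hsw (5 : Fin 8) 6 (by decide), hsw (2 : Fin 8) 3 (by decide), hsw (4 : Fin 8) 7 (by decide),
    hsw (0 : Fin 8) 2 (by decide), hsw (5 : Fin 8) 7 (by decide), hsw (1 : Fin 8) 3 (by decide),
    hsw (4 : Fin 8) 6 (by decide), map_one, mul_neg, mul_one, neg_neg, one_mul, ite_self]

/-! ### The two classes of involutions -/

/-- An involution with four fixed points. -/
def UT (x : S8) : Prop := x * x = 1 ∧ (Finset.univ.filter fun i => x i = i).card = 4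

instance : DecidablePred UT := fun x => inferInstanceAs (Decidable (_ ∧ _))

theorem UT_U8 : UT U8 ∧ UT V8 ∧ UT (U8 * V8) ∧ UT A8' ∧ ¬ UT T8 := by decide +kernel

theorem UT_conj (h x : S8) : UT (h * x * h⁻¹) ↔ UT x := by
  have aux : ∀ h x : S8, UT x → UT (h * x * h⁻¹) := by
    intro h x ⟨h1, h2⟩
    refine ⟨by rw [show h * x * h⁻¹ * (h * x * h⁻¹) = h * (x * x) * h⁻¹ by group, h1, mul_one, mul_inv_cancel], ?_⟩
    refine Eq.trans ?_ h2
    refine Finset.card_nbij' (fun i => h⁻¹ i) (fun i => h i) ?_ ?_ ?_ ?_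
    · intro i hi
      rw [Finset.mem_coe, Finset.mem_filter] at hi ⊢
      refine ⟨Finset.mem_univ _, ?_⟩
      have := congrArg (h⁻¹ : S8) hi.2
      simpa [Perm.mul_apply] using this
    · intro i hi
      rw [Finset.mem_coe, Finset.mem_filter] at hi ⊢
      refine ⟨Finset.mem_univ _, ?_⟩
      simp [Perm.mul_apply, hi.2]
    · intro i _; simp
    · intro i _; simp
  refine ⟨fun hh => ?_, aux h x⟩
  have := aux h⁻¹ _ hh
  rwa [show h⁻¹ * (h * x * h⁻¹) * h⁻¹⁻¹ = x by group] at this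

theorem cycleType_involution {x : S8} (h2 : x * x = 1) (h1 : x ≠ 1) (hs : Perm.sign x = 1) :
    x.cycleType = U8.cycleType ∧ UT x ∨ x.cycleType = T8.cycleType ∧ ¬ UT x := by
  have hfact : ∀ y : S8, y * y = 1 → ∃ n, y.cycleType = Multiset.replicate n 2 ∧
      (Finset.univ.filter fun i => y i = i).card + 2 * n = 8 ∧ Perm.sign y = (-1) ^ n := by
    intro y hy
    refine ⟨y.cycleType.card, ?_, ?_, ?_⟩
    · refine Multiset.eq_replicate.2 ⟨rfl, fun a ha => ?_⟩
      have h := Perm.dvd_of_mem_cycleType ha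
      have h' : orderOf y ∣ 2 := orderOf_dvd_of_pow_eq_one (by rw [pow_two, hy])
      have := Nat.le_of_dvd two_pos (h.trans h')
      have := Perm.two_le_of_mem_cycleType ha
      omega
    · have hrep : y.cycleType = Multiset.replicate y.cycleType.card 2 := by
        refine Multiset.eq_replicate.2 ⟨rfl, fun a ha => ?_⟩
        have h := Perm.dvd_of_mem_cycleType ha
        have h' : orderOf y ∣ 2 := orderOf_dvd_of_pow_eq_one (by rw [pow_two, hy])
        have := Nat.le_of_dvd two_pos (h.trans h')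
        have := Perm.two_le_of_mem_cycleType ha
        omega
      have hsum := y.sum_cycleType
      rw [hrep, Multiset.sum_replicate, smul_eq_mul] at hsum
      have hc : (Finset.univ.filter fun i => y i = i).card + y.support.card = 8 := by
        have := Finset.card_filter_add_card_filter_not (s := (Finset.univ : Finset (Fin 8))) (fun i => y i = i)
        rw [Finset.card_univ, Fintype.card_fin] at this
        have hsup : y.support = Finset.univ.filter fun i => ¬ y i = i := by ext i; simp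
        rw [hsup]; exact this
      omega
    · have hrep : y.cycleType = Multiset.replicate y.cycleType.card 2 := by
        refine Multiset.eq_replicate.2 ⟨rfl, fun a ha => ?_⟩
        have h := Perm.dvd_of_mem_cycleType ha
        have h' : orderOf y ∣ 2 := orderOf_dvd_of_pow_eq_one (by rw [pow_two, hy])
        have := Nat.le_of_dvd two_pos (h.trans h')
        have := Perm.two_le_of_mem_cycleType ha
        omega
      rw [Perm.sign_of_cycleType]
      conv_lhs => rw [hrep]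
      rw [Multiset.sum_replicate, Multiset.card_replicate, smul_eq_mul, pow_add, pow_mul]
      simp
  obtain ⟨n, hn, hc, hsg⟩ := hfact x h2
  obtain ⟨nu, hnu, hcu, -⟩ := hfact U8 (by decide +kernel)
  obtain ⟨nt, hnt, hct, -⟩ := hfact T8 (by decide +kernel)
  have cU : (Finset.univ.filter fun i => U8 i = i).card = 4 := by decide +kernel
  have cT : (Finset.univ.filter fun i => T8 i = i).card = 0 := by decide +kernel
  have hn0 : n ≠ 0 := fun e => h1 (Perm.cycleType_eq_zero.1 (by rw [hn, e, Multiset.replicate_zero]))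
  have hev : Even n := by
    rw [hs] at hsg
    exact (neg_one_pow_eq_one_iff_even (by decide)).1 hsg.symm
  obtain ⟨k, rfl⟩ := hev
  by_cases hk : k = 1
  · subst hk
    refine Or.inl ⟨by rw [hn, hnu, show nu = 1 + 1 by omega], h2, by omega⟩
  · refine Or.inr ⟨by rw [hn, hnt, show nt = k + k by omega], fun h => ?_⟩
    have := h.2
    omega

theorem odd_centralizing : ∃ o1 o2 : S8, Perm.sign o1 = -1 ∧ Perm.sign o2 = -1 ∧ o1 * U8 = U8 * o1 ∧
    o2 * T8 = T8 * o2 := ⟨swap 0 1, swap 0 5, by decide +kernel⟩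

/-- The even involutions form two classes. -/
theorem involution_cases {x : S8} (h2 : x * x = 1) (h1 : x ≠ 1) (hs : Perm.sign x = 1) :
    (∃ h : S8, Perm.sign h = 1 ∧ h * U8 * h⁻¹ = x) ∧ UT x ∨
    (∃ h : S8, Perm.sign h = 1 ∧ h * T8 * h⁻¹ = x) ∧ ¬ UT x := by
  obtain ⟨o1, o2, s1, s2, c1, c2⟩ := odd_centralizing
  have fix : ∀ a o : S8, Perm.sign o = -1 → o * a = a * o → a.cycleType = x.cycleType →
      ∃ h : S8, Perm.sign h = 1 ∧ h * a * h⁻¹ = x := by
    intro a o so co e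
    obtain ⟨h, hh⟩ := isConj_iff.1 (Perm.isConj_iff_cycleType_eq.2 e)
    rcases Int.units_eq_one_or (Perm.sign h) with hsg | hsg
    · exact ⟨h, hsg, hh⟩
    · refine ⟨h * o, by rw [map_mul, hsg, so]; decide, ?_⟩
      rw [show h * o * a * (h * o)⁻¹ = h * (o * a * o⁻¹) * h⁻¹ by group, co, mul_inv_cancel_right, hh]
  rcases cycleType_involution h2 h1 hs with ⟨e, hu⟩ | ⟨e, hu⟩
  · exact Or.inl ⟨fix _ o1 s1 c1 e.symm, hu⟩
  · exact Or.inr ⟨fix _ o2 s2 c2 e.symm, hu⟩

/-- The involutions with four fixed points, as products of two transpositions. -/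
def listU : List S8 :=
  ((List.finRange 8).flatMap fun p => (List.finRange 8).flatMap fun q => (List.finRange 8).flatMap fun r =>
    ((List.finRange 8).filter fun s => decide (p < q ∧ r < s ∧ p < r ∧ q ≠ r ∧ q ≠ s)).map fun s =>
      swap p q * swap r s)

theorem mem_listU {x : S8} (hx : UT x) : x ∈ listU := by
  obtain ⟨h2, h4⟩ := hx
  have hinv : ∀ i, x (x i) = i := fun i => by rw [← Perm.mul_apply, h2, Perm.one_apply]
  set S := Finset.univ.filter fun i => x i ≠ i with hS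
  have hcS : S.card = 4 := by
    have := Finset.card_filter_add_card_filter_not (s := (Finset.univ : Finset (Fin 8))) (fun i => x i = i)
    rw [Finset.card_univ, Fintype.card_fin] at this
    simp only [hS, ne_eq]; omega
  have hne : S.Nonempty := Finset.card_pos.1 (by omega)
  set p := S.min' hne with hp
  have hpS : p ∈ S := S.min'_mem hne
  have hmove : ∀ i, i ∈ S ↔ x i ≠ i := fun i => by simp [hS]
  have hxp : x p ∈ S := (hmove _).2 fun e => (hmove p).1 hpS (by rw [hinv] at e; exact e.symm)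
  set T := S \ {p, x p} with hT
  have hneq : p ≠ x p := Ne.symm ((hmove p).1 hpS)
  have hcT : T.card = 2 := by
    rw [hT, Finset.card_sdiff_of_subset (by intro i; simp; rintro (rfl | rfl) <;> assumption), hcS,
      Finset.card_pair hneq]
  have hneT : T.Nonempty := Finset.card_pos.1 (by omega)
  set r := T.min' hneT with hr
  have hrT : r ∈ T := T.min'_mem hneT
  have hrS : r ∈ S := (Finset.mem_sdiff.1 hrT).1
  have hr' : r ≠ p ∧ r ≠ x p := by simpa using (Finset.mem_sdiff.1 hrT).2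
  have hxr : x r ∈ S := (hmove _).2 fun e => (hmove r).1 hrS (by rw [hinv] at e; exact e.symm)
  have hxr' : x r ≠ p ∧ x r ≠ x p := by
    refine ⟨fun e => hr'.2 ?_, fun e => hr'.1 (x.injective e)⟩
    rw [← e, hinv]
  have hrne : r ≠ x r := Ne.symm ((hmove r).1 hrS)
  have hall : S = {p, x p, r, x r} := by
    refine (Finset.eq_of_subset_of_card_le ?_ ?_).symm
    · intro i; simp; rintro (rfl | rfl | rfl | rfl) <;> assumption
    · rw [hcS, Finset.card_insert_of_notMem (by simp [hneq, hr'.1.symm, hxr'.1.symm]),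
        Finset.card_insert_of_notMem (by simp [hr'.2.symm, hxr'.2.symm]), Finset.card_pair hrne]
  have hxrT : x r ∈ T := Finset.mem_sdiff.2 ⟨hxr, by simp [hxr'.1, hxr'.2]⟩
  have e : x = swap p (x p) * swap r (x r) := by
    refine Equiv.ext fun i => ?_
    by_cases hi : i ∈ S
    · rw [hall] at hi
      simp only [Finset.mem_insert, Finset.mem_singleton] at hi
      rcases hi with rfl | rfl | rfl | rfl
      · rw [Perm.mul_apply, swap_apply_of_ne_of_ne hr'.1.symm hxr'.1.symm, swap_apply_left]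
      · rw [Perm.mul_apply, swap_apply_of_ne_of_ne hr'.2.symm hxr'.2.symm, swap_apply_right, hinv]
      · rw [Perm.mul_apply, swap_apply_left, swap_apply_of_ne_of_ne hxr'.1 hxr'.2]
      · rw [Perm.mul_apply, swap_apply_right, swap_apply_of_ne_of_ne hr'.1 hr'.2, hinv]
    · have hfix : x i = i := not_not.1 fun h => hi ((hmove i).2 h)
      rw [hall] at hi
      simp only [Finset.mem_insert, Finset.mem_singleton, not_or] at hi
      rw [hfix, Perm.mul_apply, swap_apply_of_ne_of_ne hi.2.2.1 hi.2.2.2, swap_apply_of_ne_of_ne hi.1 hi.2.1]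
  rw [e]
  simp only [listU, List.mem_flatMap, List.mem_map, List.mem_filter, List.mem_finRange, true_and,
    decide_eq_true_eq]
  refine ⟨p, x p, r, x r, ⟨lt_of_le_of_ne (S.min'_le _ hxp) hneq, lt_of_le_of_ne (T.min'_le _ hxrT) hrne,
    lt_of_le_of_ne (S.min'_le _ hrS) hr'.1.symm, hr'.2.symm, hxr'.2.symm⟩, rfl⟩

/-- The involutions with four fixed points commuting with `U8`. -/
def listC : List S8 :=
  [swap 0 1 * swap 2 3, swap 0 1 * swap 4 7, swap 0 1 * swap 5 6, swap 0 2 * swap 1 3, swap 0 2 * swap 4 7, swap 0 2 * swap 5 6, swap 0 3 * swap 1 2, swap 0 3 * swap 4 7, swap 0 3 * swap 5 6, swap 1 2 * swap 4 7, swap 1 2 * swap 5 6, swap 1 3 * swap 4 7, swap 1 3 * swap 5 6, swap 2 3 * swap 4 7, swap 2 3 * swap 5 6, swap 4 5 * swap 6 7, swap 4 6 * swap 5 7, swap 4 7 * swap 5 6]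

theorem of_all {α : Type} (l : List α) (P : α → Prop) [DecidablePred P]
    (h : (l.all fun a => decide (P a)) = true) : ∀ a ∈ l, P a := fun a ha =>
  of_decide_eq_true (List.all_eq_true.1 h a ha)

theorem listU_commute : ∀ c ∈ listU, code (c * U8) = code (U8 * c) → code c ∈ listC.map code :=
  of_all _ (fun c => code (c * U8) = code (U8 * c) → code c ∈ listC.map code) (by decide +kernel)

theorem mem_listC {c : S8} (hc : UT c) (h : c * U8 = U8 * c) : c ∈ listC := by
  obtain ⟨d, hd, e⟩ := List.mem_map.1 (listU_commute c (mem_listU hc) (congrArg code h))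
  exact code_injective e ▸ hd

/-- The witness property. -/
def Wit (w c : S8) : Prop :=
  UT c ∧ c * U8 = U8 * c ∧ c * w = w * c ∧ c ≠ U8 ∧ UT (c * w) ∧ ¬ UT (c * U8)

instance (w : S8) : DecidablePred (Wit w) := fun c => inferInstanceAs (Decidable (_ ∧ _))

theorem four_transpositions_aux : ∀ w ∈ listC, UT (U8 * w) → w = V8 ∨ w = U8 * V8 ∨
    ([E1, E2, E1 * E2].any fun c => decide (Wit w c)) = true :=
  of_all _ (fun w => UT (U8 * w) → w = V8 ∨ w = U8 * V8 ∨
    ([E1, E2, E1 * E2].any fun c => decide (Wit w c)) = true) (by decide +kernel)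

/-- A four group of involutions with four fixed points through `U8` is `⟨U8, V8⟩` or admits a witness. -/
theorem four_transpositions {w : S8} (hw : UT w) (h : w * U8 = U8 * w) (h' : UT (U8 * w)) :
    w = V8 ∨ w = U8 * V8 ∨ ∃ c : S8, Perm.sign c = 1 ∧ UT c ∧ c * U8 = U8 * c ∧ c * w = w * c ∧ c ≠ U8 ∧
      UT (c * w) ∧ ¬ UT (c * U8) := by
  rcases four_transpositions_aux w (mem_listC hw h) h' with e | e | e
  · exact Or.inl e
  · exact Or.inr (Or.inl e)
  · obtain ⟨c, hc, r⟩ := List.any_eq_true.1 e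
    refine Or.inr (Or.inr ⟨c, ?_, of_decide_eq_true r⟩)
    obtain ⟨-, -, -, -, -, -, -, s1, s2, -⟩ := signs
    simp only [List.mem_cons, List.not_mem_nil, or_false] at hc
    rcases hc with rfl | rfl | rfl
    · exact s1
    · exact s2
    · rw [map_mul, s1, s2, one_mul]

theorem no_four_transpositions_aux : ∀ c ∈ listC, c * V8 = V8 * c →
    c ≠ U8 → UT (c * V8) → UT (c * U8) :=
  of_all _ (fun c => c * V8 = V8 * c → c ≠ U8 → UT (c * V8) → UT (c * U8)) (by decide +kernel)

theorem no_four_transpositions {c : S8} (hc : UT c) (h1 : c * U8 = U8 * c) (h2 : c * V8 = V8 * c)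
    (h3 : c ≠ U8) (h4 : UT (c * V8)) : UT (c * U8) :=
  no_four_transpositions_aux c (mem_listC hc h1) h2 h3 h4

theorem pow_pair : ∀ a : Perm (Fin 4), a ^ 12 = 1 := by decide +kernel

theorem U8_fixed : ∀ i : Fin 8, U8 i = i ↔ i.val < 4 := by decide +kernel

/-- The centraliser of an involution with four fixed points has exponent dividing twelve. -/
theorem pow_twelve {x : S8} (h : x * U8 = U8 * x) : x ^ 12 = 1 := by
  set e : Perm (Fin 4 ⊕ Fin 4) ≃* S8 := (finSumFinEquiv (m := 4) (n := 4)).permCongrHom with he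
  have hm : Set.MapsTo (e.symm x) (Set.range (Sum.inl : Fin 4 → Fin 4 ⊕ Fin 4)) (Set.range Sum.inl) := by
    rintro _ ⟨a, rfl⟩
    have hfix : U8 (x ((finSumFinEquiv (m := 4) (n := 4)) (Sum.inl a) : Fin 8)) =
        x ((finSumFinEquiv (m := 4) (n := 4)) (Sum.inl a) : Fin 8) := by
      rw [← Perm.mul_apply, ← h, Perm.mul_apply, (U8_fixed _).2 (by rw [finSumFinEquiv_apply_left]; exact a.isLt)]
    have hlt := (U8_fixed _).1 hfix
    refine ⟨⟨_, hlt⟩, ?_⟩
    show _ = (finSumFinEquiv (m := 4) (n := 4)).symm (x ((finSumFinEquiv (m := 4) (n := 4)) (Sum.inl a) : Fin 8))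
    rw [Equiv.eq_symm_apply, finSumFinEquiv_apply_left]
    rfl
  obtain ⟨⟨a, b⟩, hab⟩ := Perm.mem_sumCongrHom_range_of_perm_mapsTo_inl hm
  have : x = e (Perm.sumCongrHom (Fin 4) (Fin 4) (a, b)) := by rw [hab, MulEquiv.apply_symm_apply]
  rw [this, ← map_pow, ← map_pow, Prod.pow_mk, pow_pair, pow_pair]
  exact (congrArg e (map_one _)).trans (map_one e)

end CfsgLib.Recog.EightThree
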