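import Cfsg.Agent.Lib.Recog.EightThree.ModelEight

/-!
Owner: helper10. The local data of the 3-local characterisation of `A₈` in normalised form.
-/

set_option autoImplicit false
set_option linter.all false

namespace CfsgLib.Recog.EightThree

open Subgroup Equiv
open scoped Pointwise

universe u

variable {G : Type u} [Group G]

/-- The image of a pair under a homomorphism defined on `L0`. -/
def toG (φ : L0 →* G) (p : Pair) : G := if h : Ev p then φ ⟨p, ev_iff.2 h⟩ else 1

section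
variable (φ : L0 →* G)

theorem toG_apply {p : Pair} (hp : Ev p) : toG φ p = φ ⟨p, ev_iff.2 hp⟩ := dif_pos hp

theorem toG_mul {p q : Pair} (hp : Ev p) (hq : Ev q) : toG φ (p * q) = toG φ p * toG φ q := by
  rw [toG_apply φ hp, toG_apply φ hq, toG_apply φ (ev_mul hp hq), ← map_mul]; rfl

theorem toG_one : toG φ 1 = 1 := by rw [toG_apply φ ev_one]; exact map_one φ

theorem toG_inv {p : Pair} (hp : Ev p) : toG φ p⁻¹ = (toG φ p)⁻¹ := by
  rw [toG_apply φ hp, toG_apply φ (ev_inv hp), ← map_inv]; rfl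

theorem toG_conj {p q : Pair} (hp : Ev p) (hq : Ev q) :
    toG φ (p * q * p⁻¹) = toG φ p * toG φ q * (toG φ p)⁻¹ := by
  rw [toG_mul φ (ev_mul hp hq) (ev_inv hp), toG_mul φ hp hq, toG_inv φ hp]

theorem toG_inj (hφ : Function.Injective φ) {p q : Pair} (hp : Ev p) (hq : Ev q) (h : toG φ p = toG φ q) :
    p = q := by
  rw [toG_apply φ hp, toG_apply φ hq] at h
  exact congrArg Subtype.val (hφ h)

theorem toG_commute {p q : Pair} (hp : Ev p) (hq : Ev q) (h : p * q = q * p) : Commute (toG φ p) (toG φ q) := by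
  show _ = _
  rw [← toG_mul φ hp hq, ← toG_mul φ hq hp, h]

theorem exists_toG {x : G} (hx : x ∈ φ.range) : ∃ p, Ev p ∧ toG φ p = x := by
  obtain ⟨⟨p, hp⟩, rfl⟩ := hx
  exact ⟨p, ev_iff.1 hp, toG_apply φ (ev_iff.1 hp)⟩

theorem toG_mem_range {p : Pair} (hp : Ev p) : toG φ p ∈ φ.range := by
  rw [toG_apply φ hp]; exact ⟨_, rfl⟩

end

theorem conj_eq_iff {g x y : G} : g * x * g⁻¹ = y ↔ g * x = y * g := mul_inv_eq_iff_eq_mul

theorem card_centralizer_conj (g x : G) :
    Nat.card (centralizer ({g * x * g⁻¹} : Set G)) = Nat.card (centralizer ({x} : Set G)) := by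
  have e : centralizer ({g * x * g⁻¹} : Set G) = (centralizer ({x} : Set G)).map (MulAut.conj g).toMonoidHom := by
    ext y
    rw [mem_centralizer_singleton_iff]
    constructor
    · intro h
      refine ⟨g⁻¹ * y * g, mem_centralizer_singleton_iff.2 ?_, by simp; group⟩
      calc g⁻¹ * y * g * x = g⁻¹ * (y * (g * x * g⁻¹)) * g := by group
        _ = g⁻¹ * ((g * x * g⁻¹) * y) * g := by rw [h]
        _ = x * (g⁻¹ * y * g) := by group
    · rintro ⟨z, hz, rfl⟩
      have := mem_centralizer_singleton_iff.1 hz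
      simp only [MulEquiv.coe_toMonoidHom, MulAut.conj_apply]
      calc g * z * g⁻¹ * (g * x * g⁻¹) = g * (z * x) * g⁻¹ := by group
        _ = g * (x * z) * g⁻¹ := by rw [this]
        _ = g * x * g⁻¹ * (g * z * g⁻¹) := by group
  rw [e]
  exact Nat.card_congr ((centralizer ({x} : Set G)).equivMapOfInjective _ (MulAut.conj g).injective).symm.toEquiv

theorem card_centralizer_inv (x : G) :
    Nat.card (centralizer ({x⁻¹} : Set G)) = Nat.card (centralizer ({x} : Set G)) := by
  congr 2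
  ext y
  rw [mem_centralizer_singleton_iff, mem_centralizer_singleton_iff]
  exact Commute.inv_right_iff (a := y) (b := x)

theorem orderOf_conj' (g x : G) : orderOf (g * x * g⁻¹) = orderOf x := MulEquiv.orderOf_eq (MulAut.conj g) x

/-- The data, with `φ` identifying the normaliser of the subgroup of order three. -/
structure Data (G : Type u) [Group G] [Finite G] where
  φ : L0 →* G
  inj : Function.Injective φ
  norm : normalizer (zpowers (toG φ pz) : Set G) = φ.range
  g : G
  gz : g * toG φ pz * g⁻¹ = toG φ pw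
  gw : g * toG φ pw * g⁻¹ = toG φ pz
  not27 : ¬ 27 ∣ Nat.card G
  card_mixed : Nat.card (centralizer ({toG φ pm} : Set G)) = 18

namespace Data

variable [Finite G] (h : Data G)

/-- The map on pairs. -/
abbrev e (p : Pair) : G := toG h.φ p

abbrev z : G := h.e pz
abbrev w : G := h.e pw
abbrev m : G := h.e pm

include h

theorem z_pow_three : h.z * h.z * h.z = 1 := by
  rw [← toG_mul h.φ ev_pz ev_pz, ← toG_mul h.φ (ev_mul ev_pz ev_pz) ev_pz,
    show pz * pz * pz = 1 by decide +kernel, toG_one]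

theorem z_ne_one : h.z ≠ 1 := by
  intro e
  exact absurd (toG_inj h.φ h.inj ev_pz ev_one (e.trans (toG_one h.φ).symm)) (by decide +kernel)

theorem orderOf_z : orderOf h.z = 3 :=
  haveI := Fact.mk Nat.prime_three
  orderOf_eq_prime (by rw [pow_succ, pow_two]; exact h.z_pow_three) h.z_ne_one

/-- Elements centralising or inverting `z` come from `L0`. -/
theorem exists_of_normalizes {x : G} (hx : x * h.z * x⁻¹ = h.z ∨ x * h.z * x⁻¹ = h.z⁻¹) :
    ∃ p, Ev p ∧ h.e p = x := by
  apply exists_toG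
  rw [← h.norm, mem_normalizer_iff]
  intro y
  have key : ∀ y ∈ zpowers h.z, x * y * x⁻¹ ∈ zpowers h.z ∧ x⁻¹ * y * x ∈ zpowers h.z := by
    intro y hy
    obtain ⟨k, rfl⟩ := mem_zpowers_iff.1 hy
    have h1 : x * h.z ^ k * x⁻¹ = (x * h.z * x⁻¹) ^ k := (conj_zpow).symm
    have h2 : x⁻¹ * h.z ^ k * x = (x⁻¹ * h.z * x) ^ k := by
      have := (conj_zpow (a := x⁻¹) (b := h.z) (i := k)).symm
      rwa [inv_inv] at this
    rcases hx with e | e
    · have e' : x⁻¹ * h.z * x = h.z := by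
        calc x⁻¹ * h.z * x = x⁻¹ * (x * h.z * x⁻¹) * x := by rw [e]
          _ = h.z := by group
      rw [h1, h2, e, e']
      exact ⟨zpow_mem (mem_zpowers _) _, zpow_mem (mem_zpowers _) _⟩
    · have e' : x⁻¹ * h.z * x = h.z⁻¹ := by
        calc x⁻¹ * h.z * x = x⁻¹ * (h.z⁻¹)⁻¹ * x := by rw [inv_inv]
          _ = x⁻¹ * (x * h.z * x⁻¹)⁻¹ * x := by rw [e]
          _ = h.z⁻¹ := by group
      rw [h1, h2, e, e']
      exact ⟨zpow_mem (inv_mem (mem_zpowers _)) _, zpow_mem (inv_mem (mem_zpowers _)) _⟩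
  exact ⟨fun hy => (key y hy).1, fun hy => by
    have := (key _ hy).2
    rwa [show x⁻¹ * (x * y * x⁻¹) * x = y by group] at this⟩

theorem exists_of_commute_z {x : G} (hx : Commute x h.z) : ∃ p, Ev p ∧ p * pz = pz * p ∧ h.e p = x := by
  obtain ⟨p, hp, rfl⟩ := h.exists_of_normalizes (Or.inl (by rw [hx.eq, mul_inv_cancel_right]))
  refine ⟨p, hp, toG_inj h.φ h.inj (ev_mul hp ev_pz) (ev_mul ev_pz hp) ?_, rfl⟩
  rw [toG_mul h.φ hp ev_pz, toG_mul h.φ ev_pz hp]
  exact hx.eq

theorem commute_zw : Commute h.z h.w := toG_commute h.φ ev_pz ev_pw (by decide +kernel)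

theorem m_eq : h.m = h.z * h.w := by
  rw [← toG_mul h.φ ev_pz ev_pw, show pz * pw = pm by decide +kernel]

theorem orderOf_w : orderOf h.w = 3 := by
  have : h.w = h.g * h.z * h.g⁻¹ := h.gz.symm
  rw [this, orderOf_conj', h.orderOf_z]

/-- `⟨z, w⟩`. -/
def nineG : Subgroup G where
  carrier := {x | ∃ p ∈ nine, h.e p = x}
  one_mem' := ⟨1, by decide +kernel, toG_one h.φ⟩
  mul_mem' := by
    rintro _ _ ⟨p, hp, rfl⟩ ⟨q, hq, rfl⟩
    exact ⟨p * q, (nine_mul p hp q hq).1, toG_mul h.φ (ev_nine p hp) (ev_nine q hq)⟩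
  inv_mem' := by
    rintro _ ⟨p, hp, rfl⟩
    refine ⟨p⁻¹, ?_, toG_inv h.φ (ev_nine p hp)⟩
    have : ∀ p ∈ nine, p⁻¹ ∈ nine := by decide +kernel
    exact this p hp

theorem z_mem_nineG : h.z ∈ h.nineG := ⟨pz, by decide +kernel, rfl⟩
theorem w_mem_nineG : h.w ∈ h.nineG := ⟨pw, by decide +kernel, rfl⟩

theorem card_nineG : Nat.card h.nineG = 9 := by
  classical
  have e : (h.nineG : Set G) = ↑(nine.image h.e) := by
    ext x; simp [nineG]
  rw [← SetLike.coe_sort_coe, e, Nat.card_coe_set_eq, Set.ncard_coe_finset,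
    Finset.card_image_of_injOn fun p hp q hq => toG_inj h.φ h.inj (ev_nine p hp) (ev_nine q hq), nine_card]

/-- The centraliser of `⟨z, w⟩`. -/
theorem mem_nineG_of_commute {x : G} (hz : Commute x h.z) (hw : Commute x h.w) : x ∈ h.nineG := by
  obtain ⟨p, hp, hpz, rfl⟩ := h.exists_of_commute_z hz
  refine ⟨p, centralize_nine p hp hpz (toG_inj h.φ h.inj (ev_mul hp ev_pw) (ev_mul ev_pw hp) ?_), rfl⟩
  rw [toG_mul h.φ hp ev_pw, toG_mul h.φ ev_pw hp]
  exact hw.eq

theorem factorization_three : (Nat.card G).factorization 3 = 2 := by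
  have h9 : 3 ^ 2 ∣ Nat.card G := by
    have := h.nineG.card_subgroup_dvd_card
    rw [h.card_nineG] at this
    exact this
  have hne : Nat.card G ≠ 0 := Nat.card_pos.ne'
  have h1 : 2 ≤ (Nat.card G).factorization 3 := (Nat.prime_three.pow_dvd_iff_le_factorization hne).1 h9
  by_contra h2
  exact h.not27 ((Nat.prime_three.pow_dvd_iff_le_factorization (k := 3) hne).2 (by omega))

theorem not_nine_dvd {x : G} (h2 : x * x = 1) (h1 : x ≠ 1) :
    ¬ 9 ∣ Nat.card (centralizer ({x} : Set G)) := by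
  classical
  haveI := Fact.mk Nat.prime_three
  intro h9
  obtain ⟨K, hK⟩ := Sylow.exists_subgroup_card_pow_prime (G := centralizer ({x} : Set G)) 3 (n := 2) h9
  have hKc : Nat.card (K.map (centralizer ({x} : Set G)).subtype) = 3 ^ (Nat.card G).factorization 3 := by
    rw [card_map_of_injective (subtype_injective _), hK, h.factorization_three]
  have hNc : Nat.card h.nineG = 3 ^ (Nat.card G).factorization 3 := by
    rw [h.card_nineG, h.factorization_three]; rfl
  obtain ⟨k, hk⟩ := MulAction.exists_smul_eq G (Sylow.ofCard _ hNc) (Sylow.ofCard _ hKc)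
  have hk' : MulAut.conj k • h.nineG = K.map (centralizer ({x} : Set G)).subtype :=
    congrArg Sylow.toSubgroup hk
  have hc : ∀ y ∈ h.nineG, Commute (k⁻¹ * x * k) y := by
    intro y hy
    have hy' : k * y * k⁻¹ ∈ K.map (centralizer ({x} : Set G)).subtype := by
      rw [← hk', show k * y * k⁻¹ = MulAut.conj k • y from rfl]
      exact smul_mem_pointwise_smul _ _ _ hy
    have := mem_centralizer_singleton_iff.1 (map_subtype_le _ hy')
    show _ = _
    calc k⁻¹ * x * k * y = k⁻¹ * (x * (k * y * k⁻¹)) * k := by group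
      _ = k⁻¹ * (k * y * k⁻¹ * x) * k := by rw [this]
      _ = y * (k⁻¹ * x * k) := by group
  obtain ⟨p, hp, he⟩ := h.mem_nineG_of_commute (hc _ h.z_mem_nineG) (hc _ h.w_mem_nineG)
  have hp2 : p * p = 1 := by
    refine toG_inj h.φ h.inj (ev_mul (ev_nine p hp) (ev_nine p hp)) ev_one ?_
    rw [toG_mul h.φ (ev_nine p hp) (ev_nine p hp), toG_one, show toG h.φ p = k⁻¹ * x * k from he]
    calc k⁻¹ * x * k * (k⁻¹ * x * k) = k⁻¹ * (x * x) * k := by group
      _ = 1 := by rw [h2]; group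
  have : ∀ p ∈ nine, p * p = 1 → p = 1 := by decide +kernel
  rw [this p hp hp2, show h.e 1 = 1 from toG_one h.φ] at he
  exact h1 (by
    calc x = k * (k⁻¹ * x * k) * k⁻¹ := by group
      _ = 1 := by rw [← he]; group)

/-- In the centraliser of an involution centralising `z` there is no conjugate of a mixed element. -/
theorem not_conj_mixed {x : G} (h2 : x * x = 1) (h1 : x ≠ 1) (hz : Commute x h.z) (k : G)
    (hm : Commute (k * x * k⁻¹) h.m) : False := by
  classical
  haveI := Fact.mk Nat.prime_three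
  set C := centralizer ({x} : Set G)
  have hzC : h.z ∈ C := mem_centralizer_singleton_iff.2 hz.symm.eq
  set m' := k⁻¹ * h.m * k with hm'
  have hmC : m' ∈ C := mem_centralizer_singleton_iff.2 (by
    calc k⁻¹ * h.m * k * x = k⁻¹ * (h.m * (k * x * k⁻¹)) * k := by group
      _ = k⁻¹ * ((k * x * k⁻¹) * h.m) * k := by rw [hm.eq]
      _ = x * (k⁻¹ * h.m * k) := by group)
  have hm3 : orderOf m' = 3 := by
    rw [hm', show k⁻¹ * h.m * k = k⁻¹ * h.m * k⁻¹⁻¹ by group, orderOf_conj']
    refine orderOf_eq_prime (by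
      rw [pow_succ, pow_two, ← toG_mul h.φ ev_pm ev_pm, ← toG_mul h.φ (ev_mul ev_pm ev_pm) ev_pm,
        show pm * pm * pm = 1 by decide +kernel, toG_one]) fun e => ?_
    exact absurd (toG_inj h.φ h.inj ev_pm ev_one (e.trans (toG_one h.φ).symm)) (by decide +kernel)
  have hfac : (Nat.card C).factorization 3 = 1 := by
    have hne : Nat.card C ≠ 0 := Nat.card_pos.ne'
    have h3 : 3 ^ 1 ∣ Nat.card C := by
      rw [pow_one, ← h.orderOf_z]; exact Subgroup.orderOf_dvd_natCard _ hzC
    have a := (Nat.prime_three.pow_dvd_iff_le_factorization hne).1 h3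
    by_contra hb
    exact h.not_nine_dvd h2 h1
      ((Nat.prime_three.pow_dvd_iff_le_factorization (k := 2) hne).2 (by omega))
  have hc : ∀ (a : G) (ha : a ∈ C), orderOf a = 3 →
      Nat.card (zpowers (⟨a, ha⟩ : C)) = 3 ^ (Nat.card C).factorization 3 := fun a ha h3 => by
    rw [Nat.card_zpowers, orderOf_mk, h3, hfac, pow_one]
  obtain ⟨⟨c, hcC⟩, he⟩ :=
    MulAction.exists_smul_eq C (Sylow.ofCard _ (hc _ hzC h.orderOf_z)) (Sylow.ofCard _ (hc _ hmC hm3))
  have hmem : MulAut.conj (⟨c, hcC⟩ : C) • (⟨h.z, hzC⟩ : C) ∈ zpowers (⟨m', hmC⟩ : C) := by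
    have he' := congrArg Sylow.toSubgroup he
    rw [← show MulAut.conj _ • zpowers (⟨h.z, hzC⟩ : C) = zpowers (⟨m', hmC⟩ : C) from he']
    exact smul_mem_pointwise_smul _ _ _ (mem_zpowers _)
  obtain ⟨j, hj⟩ := mem_zpowers_iff.1 hmem
  have hj' : m' ^ j = c * h.z * c⁻¹ := by
    have := congrArg Subtype.val hj
    simpa [MulAut.conj_apply] using this
  have e1 : ∀ i : ℤ, m' ^ i = 1 ∨ m' ^ i = m' ∨ m' ^ i = m'⁻¹ := by
    intro i
    rw [← zpow_mod_orderOf, hm3]
    have h0 := Int.emod_nonneg i (show ((3 : ℕ) : ℤ) ≠ 0 by norm_num)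
    have h3 := Int.emod_lt_of_pos i (show (0 : ℤ) < ((3 : ℕ) : ℤ) by norm_num)
    obtain e | e | e : i % ((3 : ℕ) : ℤ) = 0 ∨ i % ((3 : ℕ) : ℤ) = 1 ∨ i % ((3 : ℕ) : ℤ) = 2 := by omega
    · exact Or.inl (by rw [e, zpow_zero])
    · exact Or.inr (Or.inl (by rw [e, zpow_one]))
    · refine Or.inr (Or.inr ?_)
      rw [e, show (2 : ℤ) = ((2 : ℕ) : ℤ) from rfl, zpow_natCast]
      exact eq_inv_of_mul_eq_one_left (by rw [← pow_succ]; have := pow_orderOf_eq_one m'; rwa [hm3] at this)
  have hcard : Nat.card (centralizer ({m'} : Set G)) = 18 := by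
    rw [hm', show k⁻¹ * h.m * k = k⁻¹ * h.m * k⁻¹⁻¹ by group, card_centralizer_conj, h.card_mixed]
  have hz18 : Nat.card (centralizer ({h.z} : Set G)) = 18 := by
    rw [← card_centralizer_conj c, ← hj']
    rcases e1 j with e | e | e
    · exfalso
      rw [e] at hj'
      exact h.z_ne_one (conj_eq_one_iff.1 hj'.symm)
    · rw [e, hcard]
    · rw [e, card_centralizer_inv, hcard]
  have h180 : 180 ≤ Nat.card (centralizer ({h.z} : Set G)) := by
    rw [← count_centralizer, ← Set.ncard_coe_finset, ← SetLike.coe_sort_coe, Nat.card_coe_set_eq]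
    refine Set.ncard_le_ncard_of_injOn h.e ?_ ?_ (Set.toFinite _)
    · intro p hp
      simp only [Finset.coe_filter, Finset.mem_univ, true_and, Set.mem_setOf_eq] at hp
      exact mem_centralizer_singleton_iff.2 (toG_commute h.φ hp.1 ev_pz hp.2).eq
    · intro p hp q hq he
      simp only [Finset.coe_filter, Finset.mem_univ, true_and, Set.mem_setOf_eq] at hp hq
      exact toG_inj h.φ h.inj hp.1 hq.1 he
  omega

/-- A 3'-subgroup of `C(m)` normalised by `z` and `w` is trivial. -/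
theorem mixed_trivial {a : G} (ha : Nat.card (centralizer ({a} : Set G)) = 18) (X : Subgroup G)
    (hX : ∀ x ∈ X, Commute x a) (hn : ¬ 3 ∣ Nat.card X)
    (hz : ∀ x ∈ X, h.z * x * h.z⁻¹ ∈ X) (hw : ∀ x ∈ X, h.w * x * h.w⁻¹ ∈ X) : X = ⊥ := by
  have hle : X ≤ centralizer ({a} : Set G) := fun x hx => mem_centralizer_singleton_iff.2 (hX x hx).eq
  have hdvd : Nat.card X ∣ 18 := ha ▸ card_dvd_of_le hle
  have h2 : Nat.card X ≤ 2 := by
    have hmem := Nat.le_of_dvd (by norm_num) hdvd
    interval_cases Nat.card X <;> omega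
  refine (eq_bot_iff_forall X).2 fun x hx => ?_
  by_contra hne
  have huniq : ∀ y ∈ X, y = 1 ∨ y = x := by
    intro y hy
    by_contra hcon
    push Not at hcon
    have h3 : ({1, x, y} : Set G).ncard ≤ (X : Set G).ncard :=
      Set.ncard_le_ncard (by rintro a (rfl | rfl | rfl) <;> [exact X.one_mem; exact hx; exact hy]) (Set.toFinite _)
    rw [Set.ncard_eq_three.2 ⟨1, x, y, Ne.symm hne, Ne.symm hcon.1, Ne.symm hcon.2, rfl⟩,
      ← Nat.card_coe_set_eq] at h3
    change 3 ≤ Nat.card X at h3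
    omega
  have hfix : ∀ k, (∀ y ∈ X, k * y * k⁻¹ ∈ X) → Commute x k := by
    intro k hk
    rcases huniq _ (hk x hx) with e | e
    · exact absurd (conj_eq_one_iff.1 e) hne
    · exact (conj_eq_iff.1 e).symm
  obtain ⟨p, hp, rfl⟩ := h.mem_nineG_of_commute (hfix _ hz) (hfix _ hw)
  have hx2 : h.e p * h.e p = 1 := by
    rcases huniq _ (X.mul_mem hx hx) with e | e
    · exact e
    · exact absurd (mul_eq_left.1 e) hne
  have : ∀ p ∈ nine, p * p = 1 → p = 1 := by decide +kernel
  exact hne (by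
    rw [this p hp (toG_inj h.φ h.inj (ev_mul (ev_nine p hp) (ev_nine p hp)) ev_one
      ((toG_mul h.φ (ev_nine p hp) (ev_nine p hp)).trans (hx2.trans (toG_one h.φ).symm)))]
    exact toG_one h.φ)

/-- An involution centralising a mixed element. -/
theorem exists_involution_mixed : ∃ x : G, x * x = 1 ∧ x ≠ 1 ∧ Commute x h.m := by
  obtain ⟨x, hx⟩ := exists_prime_orderOf_dvd_card' (G := centralizer ({h.m} : Set G)) 2
    (h.card_mixed.symm ▸ (by norm_num : 2 ∣ 18))
  refine ⟨x.1, ?_, fun e => ?_, mem_centralizer_singleton_iff.1 x.2⟩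
  · have := congrArg Subtype.val (pow_orderOf_eq_one x)
    rw [hx, SubmonoidClass.coe_pow, pow_two] at this
    exact this
  · rw [show x = 1 from Subtype.ext e, orderOf_one] at hx
    norm_num at hx

end Data

end CfsgLib.Recog.EightThree
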