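import Cfsg.Agent.Lib.Recog.EightThree.Setup
import Cfsg.Agent.S0058
import Cfsg.Agent.S0514
import Cfsg.Agent.S1189
import Cfsg.Agent.S3224

/-!
Owner: helper10. The centraliser of the four group in the second factor has a nontrivial element of
order prime to three commuting with `w`.

Otherwise that centraliser has order twelve, a Sylow 2-subgroup is dihedral or semidihedral, all
involutions are conjugate, and an involution centralising a mixed element gives a contradiction.
-/

set_option autoImplicit false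
set_option linter.all false

namespace CfsgLib.Recog.EightThree

open Subgroup Equiv
open scoped Pointwise

universe u

variable {G : Type u} [Group G] [Finite G]

namespace Data

variable (h : Data G)

/-- The centraliser of the four group. -/
def CV : Subgroup G := centralizer ({h.e pu} : Set G) ⊓ centralizer ({h.e pv} : Set G)

theorem mem_CV {x : G} : x ∈ h.CV ↔ Commute x (h.e pu) ∧ Commute x (h.e pv) := by
  rw [CV, mem_inf, mem_centralizer_singleton_iff, mem_centralizer_singleton_iff]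
  rfl

theorem z_mem_CV : h.z ∈ h.CV :=
  h.mem_CV.2 ⟨toG_commute h.φ ev_pz ev_pu (by decide +kernel), toG_commute h.φ ev_pz ev_pv (by decide +kernel)⟩

theorem exists_of_CV_normalizes {x : G} (hx : x ∈ h.CV) (hn : x * h.z * x⁻¹ = h.z ∨ x * h.z * x⁻¹ = h.z⁻¹) :
    ∃ p, Ev p ∧ (p.1 = 1 ∨ p.1 = c3 ∨ p.1 = c3 * c3) ∧
      p.2 ∈ ({1, pu.2, pv.2, pu.2 * pv.2} : Finset S5) ∧ h.e p = x := by
  obtain ⟨p, hp, rfl⟩ := h.exists_of_normalizes hn
  obtain ⟨hu, hv⟩ := h.mem_CV.1 hx
  obtain ⟨h1, h2⟩ := centralize_four p hp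
    (toG_inj h.φ h.inj (ev_mul hp ev_pu) (ev_mul ev_pu hp)
      (by rw [toG_mul h.φ hp ev_pu, toG_mul h.φ ev_pu hp]; exact hu.eq))
    (toG_inj h.φ h.inj (ev_mul hp ev_pv) (ev_mul ev_pv hp)
      (by rw [toG_mul h.φ hp ev_pv, toG_mul h.φ ev_pv hp]; exact hv.eq))
  exact ⟨p, hp, h1, h2, rfl⟩

theorem toG_pow {p : Pair} (hp : Ev p) (n : ℕ) : h.e (p ^ n) = h.e p ^ n ∧ Ev (p ^ n) := by
  induction n with
  | zero => exact ⟨by rw [pow_zero, pow_zero]; exact toG_one h.φ, by rw [pow_zero]; exact ev_one⟩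
  | succ n ih =>
    refine ⟨?_, by rw [pow_succ]; exact ev_mul ih.2 hp⟩
    rw [pow_succ, pow_succ, ← ih.1]
    exact toG_mul h.φ ih.2 hp

theorem fst_eq_one {p : Pair} (hp : Ev p) (h3 : p.1 * p.1 * p.1 = 1) (ho : ¬ 3 ∣ orderOf (h.e p)) : p.1 = 1 := by
  have h1 := (h.toG_pow hp (orderOf (h.e p))).1
  rw [pow_orderOf_eq_one] at h1
  have h2 : p.1 ^ orderOf (h.e p) = 1 := by
    have := toG_inj h.φ h.inj (h.toG_pow hp _).2 ev_one (h1.trans (toG_one h.φ).symm)
    exact congrArg Prod.fst this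
  have ha := orderOf_dvd_of_pow_eq_one (show p.1 ^ 3 = 1 by rw [pow_succ, pow_two]; exact h3)
  rcases (Nat.dvd_prime Nat.prime_three).1 ha with e | e
  · exact orderOf_eq_one_iff.1 e
  · exact absurd (e ▸ orderOf_dvd_of_pow_eq_one h2) ho

/-- The normal 3-complement of `CV`. -/
theorem exists_complement : ∃ O : Subgroup G, O ≤ h.CV ∧ ¬ 3 ∣ Nat.card O ∧
    (∀ x ∈ h.CV, ¬ 3 ∣ orderOf x → x ∈ O) ∧ (∀ x ∈ h.CV, ∃ o ∈ O, ∃ i : ℤ, x = o * h.z ^ i) := by
  classical
  haveI := Fact.mk Nat.prime_three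
  set C := h.CV with hC
  set zC : C := ⟨h.z, h.z_mem_CV⟩ with hzC
  have hord : orderOf zC = 3 := by rw [hzC, orderOf_mk, h.orderOf_z]
  have hne : Nat.card C ≠ 0 := Nat.card_pos.ne'
  have hfac : (Nat.card C).factorization 3 = 1 := by
    have h3 : 3 ^ 1 ∣ Nat.card C := by
      rw [pow_one, ← h.orderOf_z]; exact Subgroup.orderOf_dvd_natCard _ h.z_mem_CV
    have a := (Nat.prime_three.pow_dvd_iff_le_factorization hne).1 h3
    by_contra hb
    have h9 := (Nat.prime_three.pow_dvd_iff_le_factorization (k := 2) hne).2 (by omega)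
    refine h.not_nine_dvd (x := h.e pu) ?_ ?_ (h9.trans (card_dvd_of_le inf_le_left))
    · rw [← toG_mul h.φ ev_pu ev_pu, (four_orders pu (by decide +kernel)).1, toG_one]
    · exact fun e => (four_orders pu (by decide +kernel)).2
        (toG_inj h.φ h.inj ev_pu ev_one (e.trans (toG_one h.φ).symm))
  set Q : Sylow 3 C := Sylow.ofCard (zpowers zC) (by rw [Nat.card_zpowers, hord, hfac, pow_one]) with hQ
  have hpow : ∀ i : ℤ, h.z ^ i = 1 ∨ h.z ^ i = h.z ∨ h.z ^ i = h.z⁻¹ := by
    intro i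
    rw [← zpow_mod_orderOf, h.orderOf_z]
    have h0 := Int.emod_nonneg i (show ((3 : ℕ) : ℤ) ≠ 0 by norm_num)
    have h3 := Int.emod_lt_of_pos i (show (0 : ℤ) < ((3 : ℕ) : ℤ) by norm_num)
    obtain e | e | e : i % ((3 : ℕ) : ℤ) = 0 ∨ i % ((3 : ℕ) : ℤ) = 1 ∨ i % ((3 : ℕ) : ℤ) = 2 := by omega
    · exact Or.inl (by rw [e, zpow_zero])
    · exact Or.inr (Or.inl (by rw [e, zpow_one]))
    · refine Or.inr (Or.inr ?_)
      rw [e, show (2 : ℤ) = ((2 : ℕ) : ℤ) from rfl, zpow_natCast, pow_two]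
      exact eq_inv_of_mul_eq_one_left h.z_pow_three
  have hP : normalizer ((Q : Subgroup C) : Set C) ≤ centralizer ((Q : Subgroup C) : Set C) := by
    intro n hn
    rw [mem_centralizer_iff]
    intro q hq
    obtain ⟨i, rfl⟩ := mem_zpowers_iff.1 (show q ∈ zpowers zC from hq)
    obtain ⟨j, hj⟩ := mem_zpowers_iff.1 (show n * zC * n⁻¹ ∈ zpowers zC from
      (mem_normalizer_iff.1 hn zC).1 (mem_zpowers zC))
    have hj' : h.z ^ j = (n : G) * h.z * (n : G)⁻¹ := congrArg Subtype.val hj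
    have hcases : (n : G) * h.z * (n : G)⁻¹ = h.z ∨ (n : G) * h.z * (n : G)⁻¹ = h.z⁻¹ := by
      rcases hpow j with e | e | e <;> rw [e] at hj'
      · exact absurd (conj_eq_one_iff.1 hj'.symm) h.z_ne_one
      · exact Or.inl hj'.symm
      · exact Or.inr hj'.symm
    obtain ⟨p, hp, h1, -, he⟩ := h.exists_of_CV_normalizes n.2 hcases
    have hc : Commute (n : G) h.z := by
      rw [← he]
      refine toG_commute h.φ hp ev_pz (Prod.ext ?_ ?_)
      · rcases h1 with e | e | e <;> simp [pz, e, mul_assoc]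
      · simp [pz]
    exact (Commute.zpow_right (show Commute n zC from Subtype.ext hc.eq) i).eq.symm
  set f := MonoidHom.transferSylow Q hP with hf
  have hcompl := MonoidHom.ker_transferSylow_isComplement' Q hP
  have hidx : f.ker.index = 3 := by
    rw [hcompl.symm.index_eq_card]
    show Nat.card (zpowers zC) = 3
    rw [Nat.card_zpowers, hord]
  refine ⟨f.ker.map C.subtype, map_subtype_le _, ?_, ?_, ?_⟩
  · rw [card_map_of_injective C.subtype_injective]
    exact MonoidHom.not_dvd_card_ker_transferSylow Q hP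
  · intro x hx hox
    refine ⟨⟨x, hx⟩, ?_, rfl⟩
    set xb : C ⧸ f.ker := QuotientGroup.mk' f.ker ⟨x, hx⟩ with hxb
    have h1 : orderOf xb ∣ 3 := by
      have := orderOf_dvd_natCard xb
      rwa [← index_eq_card, hidx] at this
    have h2 : orderOf xb ∣ orderOf x := by
      have := orderOf_map_dvd (QuotientGroup.mk' f.ker) (⟨x, hx⟩ : C)
      rwa [orderOf_mk] at this
    rcases (Nat.dvd_prime Nat.prime_three).1 h1 with e | e
    · exact (QuotientGroup.eq_one_iff _).1 (orderOf_eq_one_iff.1 e)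
    · exact absurd (e ▸ h2) hox
  · intro x hx
    obtain ⟨⟨⟨o, ho⟩, ⟨q, hq⟩⟩, he⟩ := hcompl.2 (⟨x, hx⟩ : C)
    obtain ⟨i, hi⟩ := mem_zpowers_iff.1 (show q ∈ zpowers zC from hq)
    refine ⟨o, ⟨o, ho, rfl⟩, i, ?_⟩
    subst hi
    exact (congrArg Subtype.val he).symm

theorem card_mixed' {q : Pair} (hq : q ∈ mixed) : Nat.card (centralizer ({h.e q} : Set G)) = 18 := by
  rcases mixed_link q hq with rfl | rfl | rfl | rfl
  · exact h.card_mixed
  · rw [Data.e, toG_conj h.φ ev_pf ev_pm, card_centralizer_conj, h.card_mixed]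
  · rw [Data.e, toG_inv h.φ ev_pm, card_centralizer_inv, h.card_mixed]
  · rw [Data.e, toG_inv h.φ (ev_mul (ev_mul ev_pf ev_pm) (ev_inv ev_pf)), toG_conj h.φ ev_pf ev_pm,
      card_centralizer_inv, card_centralizer_conj, h.card_mixed]

theorem w_conj_CV {x : G} (hx : x ∈ h.CV) : h.w * x * h.w⁻¹ ∈ h.CV := by
  have key : ∀ v ∈ ({pu, pv, pu * pv} : Finset Pair), Commute x (h.e v) := by
    obtain ⟨a, b⟩ := h.mem_CV.1 hx
    intro v hv
    simp only [Finset.mem_insert, Finset.mem_singleton] at hv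
    rcases hv with rfl | rfl | rfl
    · exact a
    · exact b
    · rw [Data.e, toG_mul h.φ ev_pu ev_pv]; exact a.mul_right b
  have hev : ∀ v ∈ ({pu, pv, pu * pv} : Finset Pair), Ev v := by decide +kernel
  have step : ∀ v ∈ ({pu, pv, pu * pv} : Finset Pair), Commute (h.w * x * h.w⁻¹) (h.e v) := by
    intro v hv
    have h1 := key _ (pw_four v hv).2.1
    rw [Data.e, show pw⁻¹ * v * pw = pw⁻¹ * v * pw⁻¹⁻¹ by rw [inv_inv], toG_conj h.φ (ev_inv ev_pw) (hev v hv),
      toG_inv h.φ ev_pw, inv_inv] at h1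
    show _ = _
    calc h.w * x * h.w⁻¹ * h.e v = h.w * (x * (h.w⁻¹ * h.e v * h.w)) * h.w⁻¹ := by group
      _ = h.w * ((h.w⁻¹ * h.e v * h.w) * x) * h.w⁻¹ := by rw [show x * _ = _ * x from h1.eq]
      _ = h.e v * (h.w * x * h.w⁻¹) := by group
  exact h.mem_CV.2 ⟨step pu (by decide +kernel), step pv (by decide +kernel)⟩

/-- The complement is generated by its centralisers of the nontrivial elements of `⟨z, w⟩`. -/
theorem le_of_generated (O : Subgroup G) (hO : O ≤ h.CV) (hn : ¬ 3 ∣ Nat.card O)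
    (hmax : ∀ x ∈ h.CV, ¬ 3 ∣ orderOf x → x ∈ O) (F : Subgroup G)
    (hF : ∀ q ∈ nine, q ≠ 1 → ∀ x ∈ O, Commute x (h.e q) → x ∈ F) : O ≤ F := by
  classical
  haveI : IsMulCommutative h.nineG := ⟨⟨by
    rintro ⟨_, p, hp, rfl⟩ ⟨_, q, hq, rfl⟩
    exact Subtype.ext (toG_commute h.φ (ev_nine p hp) (ev_nine q hq) (nine_mul p hp q hq).2).eq⟩⟩
  have hncyc : ¬ IsCyclic h.nineG := by
    intro hc
    obtain ⟨⟨_, p, hp, rfl⟩, hgen⟩ := hc.exists_ofOrder_eq_natCard
    rw [h.card_nineG, ← Subgroup.orderOf_coe] at hgen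
    have h3 : ∀ p ∈ nine, p ^ 3 = 1 := by decide +kernel
    have : orderOf (h.e p) ∣ 3 := orderOf_dvd_of_pow_eq_one (by
      rw [← (h.toG_pow (ev_nine p hp) 3).1, h3 p hp]; exact toG_one h.φ)
    rw [hgen] at this
    norm_num at this
  have hzO : ∀ x ∈ O, h.z * x * h.z⁻¹ ∈ O := fun x hx =>
    hmax _ (h.CV.mul_mem (h.CV.mul_mem h.z_mem_CV (hO hx)) (h.CV.inv_mem h.z_mem_CV)) (by
      rw [orderOf_conj']; exact fun h3 => hn (h3.trans (Subgroup.orderOf_dvd_natCard _ hx)))
  have hwO : ∀ x ∈ O, h.w * x * h.w⁻¹ ∈ O := fun x hx =>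
    hmax _ (h.w_conj_CV (hO hx)) (by
      rw [orderOf_conj']; exact fun h3 => hn (h3.trans (Subgroup.orderOf_dvd_natCard _ hx)))
  have hnor : ∀ k, (∀ x ∈ O, k * x * k⁻¹ ∈ O) → k ∈ normalizer (O : Set G) := fun k hk => by
    have hmap : O.map (MulAut.conj k).toMonoidHom = O := by
      refine eq_of_le_of_card_ge ?_ ?_
      · rintro _ ⟨x, hx, rfl⟩; exact hk x hx
      · rw [card_map_of_injective (MulAut.conj k).injective]
    refine mem_normalizer_iff.2 fun x => ⟨hk x, fun hx => ?_⟩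
    rw [← hmap] at hx
    obtain ⟨x', hx', he⟩ := hx
    simp only [MulEquiv.coe_toMonoidHom, MulAut.conj_apply, mul_left_inj, mul_right_inj] at he
    exact he ▸ hx'
  have hAK : h.nineG ≤ normalizer (O : Set G) := by
    rintro _ ⟨p, hp, rfl⟩
    have hz := hnor _ hzO
    have hw := hnor _ hwO
    have m := fun {a b : G} (ha : a ∈ normalizer (O : Set G)) (hb : b ∈ normalizer (O : Set G)) => mul_mem ha hb
    rcases nine_gens p hp with rfl | rfl | rfl | rfl | rfl | rfl | rfl | rfl | rfl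
    · rw [Data.e, toG_one]; exact one_mem _
    · exact hz
    · rw [Data.e, toG_mul h.φ ev_pz ev_pz]; exact m hz hz
    · exact hw
    · rw [Data.e, toG_mul h.φ ev_pw ev_pw]; exact m hw hw
    · rw [Data.e, toG_mul h.φ ev_pz ev_pw]; exact m hz hw
    · rw [Data.e, toG_mul h.φ (ev_mul ev_pz ev_pz) ev_pw, toG_mul h.φ ev_pz ev_pz]; exact m (m hz hz) hw
    · rw [Data.e, toG_mul h.φ ev_pz (ev_mul ev_pw ev_pw), toG_mul h.φ ev_pw ev_pw]; exact m hz (m hw hw)
    · rw [Data.e, toG_mul h.φ (ev_mul ev_pz ev_pz) (ev_mul ev_pw ev_pw), toG_mul h.φ ev_pz ev_pz,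
        toG_mul h.φ ev_pw ev_pw]
      exact m (m hz hz) (m hw hw)
  have hcop : (Nat.card h.nineG).Coprime (Nat.card O) := by
    rw [h.card_nineG, show (9 : ℕ) = 3 ^ 2 from rfl]
    exact Nat.Coprime.pow_left 2 ((Nat.prime_three.coprime_iff_not_dvd).2 hn)
  have hgen := Cfsg.Agent.S0058.result h.nineG O hncyc hAK hcop
  rw [← hgen]
  refine iSup₂_le ?_
  rintro a ⟨⟨q, hq, rfl⟩, ha⟩ x ⟨hxO, hxc⟩
  exact hF q hq (fun e => ha (by rw [e]; exact toG_one h.φ)) x hxO (mem_centralizer_singleton_iff.1 hxc :)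

theorem normalizes_complement (O : Subgroup G) (hO : O ≤ h.CV) (hn : ¬ 3 ∣ Nat.card O)
    (hmax : ∀ x ∈ h.CV, ¬ 3 ∣ orderOf x → x ∈ O) :
    (∀ x ∈ O, h.z * x * h.z⁻¹ ∈ O) ∧ ∀ x ∈ O, h.w * x * h.w⁻¹ ∈ O :=
  ⟨fun x hx => hmax _ (h.CV.mul_mem (h.CV.mul_mem h.z_mem_CV (hO hx)) (h.CV.inv_mem h.z_mem_CV)) (by
      rw [orderOf_conj']; exact fun h3 => hn (h3.trans (Subgroup.orderOf_dvd_natCard _ hx))),
    fun x hx => hmax _ (h.w_conj_CV (hO hx)) (by
      rw [orderOf_conj']; exact fun h3 => hn (h3.trans (Subgroup.orderOf_dvd_natCard _ hx)))⟩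

/-- Every element of the complement lies in the four group when `U` is trivial. -/
theorem le_four (O : Subgroup G) (hO : O ≤ h.CV) (hn : ¬ 3 ∣ Nat.card O)
    (hmax : ∀ x ∈ h.CV, ¬ 3 ∣ orderOf x → x ∈ O)
    (hU : ∀ x ∈ O, Commute x h.w → x = 1) :
    ∀ x ∈ O, ∃ p, Ev p ∧ p.1 = 1 ∧ p.2 ∈ ({1, pu.2, pv.2, pu.2 * pv.2} : Finset S5) ∧ h.e p = x := by
  classical
  obtain ⟨hzO, hwO⟩ := h.normalizes_complement O hO hn hmax
  let F : Subgroup G :=
    { carrier := {x | ∃ p, Ev p ∧ p.1 = 1 ∧ p.2 ∈ ({1, pu.2, pv.2, pu.2 * pv.2} : Finset S5) ∧ h.e p = x}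
      one_mem' := ⟨1, ev_one, rfl, by decide +kernel, toG_one h.φ⟩
      mul_mem' := by
        rintro _ _ ⟨p, hp, p1, p2, rfl⟩ ⟨q, hq, q1, q2, rfl⟩
        have : ∀ a ∈ ({1, pu.2, pv.2, pu.2 * pv.2} : Finset S5), ∀ b ∈ ({1, pu.2, pv.2, pu.2 * pv.2} : Finset S5),
            a * b ∈ ({1, pu.2, pv.2, pu.2 * pv.2} : Finset S5) := by decide +kernel
        exact ⟨p * q, ev_mul hp hq, by rw [Prod.fst_mul, p1, q1, one_mul], this _ p2 _ q2, toG_mul h.φ hp hq⟩
      inv_mem' := by
        rintro _ ⟨p, hp, p1, p2, rfl⟩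
        have : ∀ a ∈ ({1, pu.2, pv.2, pu.2 * pv.2} : Finset S5),
            a⁻¹ ∈ ({1, pu.2, pv.2, pu.2 * pv.2} : Finset S5) := by decide +kernel
        exact ⟨p⁻¹, ev_inv hp, by rw [Prod.fst_inv, p1, inv_one], this _ p2, toG_inv h.φ hp⟩ }
  suffices hle : O ≤ F from fun x hx => hle hx
  refine h.le_of_generated O hO hn hmax F ?_
  intro q hq ha x hxO hcom
  rcases nine_cases q hq with rfl | hc | hc | hc
  · exact absurd rfl ha
  · have hz : Commute x h.z := by
      rcases zline_wline_link.1 q hc with rfl | rfl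
      · exact hcom
      · rw [Data.e, toG_inv h.φ ev_pz] at hcom
        exact Commute.inv_right_iff.1 hcom
    obtain ⟨p, hp, p1, p2, rfl⟩ := h.exists_of_CV_normalizes (hO hxO)
      (Or.inl (by rw [hz.eq, mul_inv_cancel_right]))
    refine ⟨p, hp, h.fst_eq_one hp ?_ ?_, p2, rfl⟩
    · rcases p1 with e | e | e <;> rw [e] <;> decide +kernel
    · exact fun h3 => hn (h3.trans (Subgroup.orderOf_dvd_natCard _ hxO))
  · have hw : Commute x h.w := by
      rcases zline_wline_link.2.1 q hc with rfl | rfl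
      · exact hcom
      · rw [Data.e, toG_inv h.φ ev_pw] at hcom
        exact Commute.inv_right_iff.1 hcom
    rw [hU x hxO hw]
    exact F.one_mem
  · set X := O ⊓ centralizer ({h.e q} : Set G) with hX
    have hinv : ∀ k, (∀ y ∈ O, k * y * k⁻¹ ∈ O) → Commute k (h.e q) → ∀ y ∈ X, k * y * k⁻¹ ∈ X := by
      intro k hk hkq y hy
      refine ⟨hk y hy.1, mem_centralizer_singleton_iff.2 ?_⟩
      exact ((hkq.mul_left (mem_centralizer_singleton_iff.1 hy.2 :)).mul_left hkq.inv_left).eq
    have hbot := h.mixed_trivial (h.card_mixed' hc) X (fun y hy => (mem_centralizer_singleton_iff.1 hy.2 :))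
      (fun h3 => hn (h3.trans (card_dvd_of_le inf_le_left)))
      (hinv h.z hzO (toG_commute h.φ ev_pz (ev_nine q hq) (nine_mul pz (by decide +kernel) q hq).2))
      (hinv h.w hwO (toG_commute h.φ ev_pw (ev_nine q hq) (nine_mul pw (by decide +kernel) q hq).2))
    have hx' : x ∈ X := ⟨hxO, mem_centralizer_singleton_iff.2 hcom.eq⟩
    rw [hbot] at hx'
    rw [mem_bot.1 hx']
    exact F.one_mem

theorem count_normalizer_pu :
    (Finset.univ.filter fun p : Pair => Ev p ∧ p * pu = pu * p).card ≤ 24 := by decide +kernel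

/-- The main step. -/
theorem exists_U (O : Subgroup G) (hO : O ≤ h.CV) (hn : ¬ 3 ∣ Nat.card O)
    (hmax : ∀ x ∈ h.CV, ¬ 3 ∣ orderOf x → x ∈ O)
    (hcov : ∀ x ∈ h.CV, ∃ o ∈ O, ∃ i : ℤ, x = o * h.z ^ i) :
    ∃ x ∈ O, x ≠ 1 ∧ Commute x h.w := by
  classical
  by_contra hcon
  push Not at hcon
  have hU : ∀ x ∈ O, Commute x h.w → x = 1 := fun x hx hw => by
    by_contra hne; exact hcon x hx hne hw
  have hfour := h.le_four O hO hn hmax hU
  have hshape : ∀ x ∈ h.CV, ∃ p, Ev p ∧ (p.1 = 1 ∨ p.1 = c3 ∨ p.1 = c3 * c3) ∧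
      p.2 ∈ ({1, pu.2, pv.2, pu.2 * pv.2} : Finset S5) ∧ h.e p = x := by
    intro x hx
    obtain ⟨o, ho, i, rfl⟩ := hcov x hx
    obtain ⟨p, hp, p1, p2, rfl⟩ := hfour o ho
    have hoz : Commute (h.e p) h.z :=
      toG_commute h.φ hp ev_pz (Prod.ext (by simp [p1]) (by simp [pz]))
    refine h.exists_of_CV_normalizes hx (Or.inl ?_)
    rw [(hoz.mul_left (Commute.zpow_self h.z i)).eq, mul_inv_cancel_right]
  -- a Sylow 2-subgroup containing the dihedral group of order eight
  haveI := Fact.mk Nat.prime_two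
  let E8 : Subgroup G :=
    { carrier := {x | ∃ p ∈ eight, h.e p = x}
      one_mem' := ⟨1, by decide +kernel, toG_one h.φ⟩
      mul_mem' := by
        rintro _ _ ⟨p, hp, rfl⟩ ⟨q, hq, rfl⟩
        exact ⟨p * q, eight_facts.2.2.1 p hp q hq, toG_mul h.φ (eight_facts.1 p hp) (eight_facts.1 q hq)⟩
      inv_mem' := by
        rintro _ ⟨p, hp, rfl⟩
        have : ∀ p ∈ eight, p⁻¹ ∈ eight := by decide +kernel
        exact ⟨p⁻¹, this p hp, toG_inv h.φ (eight_facts.1 p hp)⟩ }
  have hE8c : Nat.card E8 = 8 := by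
    have e : (E8 : Set G) = ↑(eight.image h.e) := by ext x; simp [E8]
    rw [← SetLike.coe_sort_coe, e, Nat.card_coe_set_eq, Set.ncard_coe_finset,
      Finset.card_image_of_injOn fun p hp q hq => toG_inj h.φ h.inj (eight_facts.1 p hp) (eight_facts.1 q hq),
      eight_facts.2.1]
  obtain ⟨T, hT⟩ := (IsPGroup.of_card (p := 2) (n := 3) hE8c).exists_le_sylow
  set u := h.e pu with hu
  set v := h.e pv with hv
  have hmemE : ∀ p ∈ eight, h.e p ∈ (T : Subgroup G) := fun p hp => hT ⟨p, hp, rfl⟩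
  have huT : u ∈ (T : Subgroup G) := hmemE pu (by decide +kernel)
  have hvT : v ∈ (T : Subgroup G) := hmemE pv (by decide +kernel)
  have hTCV : ∀ x ∈ (T : Subgroup G), x ∈ h.CV →
      ∃ p ∈ ({1, pu, pv, pu * pv} : Finset Pair), h.e p = x := by
    intro x hxT hx
    obtain ⟨p, hp, p1, p2, rfl⟩ := hshape x hx
    have ho : ¬ 3 ∣ orderOf (h.e p) := by
      obtain ⟨k, hk⟩ := IsPGroup.iff_orderOf.1 T.isPGroup' ⟨_, hxT⟩
      rw [orderOf_mk] at hk
      rw [hk]
      exact fun h3 => absurd (Nat.prime_three.dvd_of_dvd_pow h3) (by norm_num)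
    have hp1 : p.1 = 1 := h.fst_eq_one hp (by rcases p1 with e | e | e <;> rw [e] <;> decide +kernel) ho
    refine ⟨p, ?_, rfl⟩
    have : ∀ b ∈ ({1, pu.2, pv.2, pu.2 * pv.2} : Finset S5), ((1, b) : Pair) ∈ ({1, pu, pv, pu * pv} : Finset Pair) := by
      decide +kernel
    rw [show p = (1, p.2) from Prod.ext hp1 rfl]
    exact this _ p2
  haveI : Nontrivial (T : Subgroup G) := ⟨⟨u, huT⟩, 1, fun e => (four_orders pu (by decide +kernel)).2
    (toG_inj h.φ h.inj ev_pu ev_one ((congrArg Subtype.val e).trans (toG_one h.φ).symm))⟩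
  haveI := T.isPGroup'.center_nontrivial
  obtain ⟨⟨c, hcC⟩, hc1⟩ := exists_ne (1 : center (T : Subgroup G))
  have hcc : ∀ x ∈ (T : Subgroup G), Commute (c : G) x := fun x hx =>
    (congrArg Subtype.val (mem_center_iff.1 hcC ⟨x, hx⟩)).symm
  obtain ⟨pc, hpc, hpce⟩ := hTCV c c.2 (h.mem_CV.2 ⟨hcc u huT, hcc v hvT⟩)
  have hpc8 : pc ∈ eight := by
    have : ∀ p ∈ ({1, pu, pv, pu * pv} : Finset Pair), p ∈ eight := by decide +kernel
    exact this pc hpc
  have huc : ∀ x ∈ (T : Subgroup G), Commute u x := by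
    rcases eight_facts.2.2.2 pc hpc8 (fun q hq => toG_inj h.φ h.inj (ev_mul (eight_facts.1 pc hpc8)
      (eight_facts.1 q hq)) (ev_mul (eight_facts.1 q hq) (eight_facts.1 pc hpc8)) (by
        rw [toG_mul h.φ (eight_facts.1 pc hpc8) (eight_facts.1 q hq), toG_mul h.φ (eight_facts.1 q hq)
          (eight_facts.1 pc hpc8), show toG h.φ pc = (c : G) from hpce]
        exact (hcc _ (hmemE q hq)).eq)) with e | e
    · exfalso
      apply hc1
      apply Subtype.ext; apply Subtype.ext
      show (c : G) = 1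
      rw [← hpce, e]
      exact toG_one h.φ
    · intro x hx
      rw [hu, ← e, hpce]
      exact hcc x hx
  have hv2 : v * v = 1 := by
    rw [hv, Data.e, ← toG_mul h.φ ev_pv ev_pv, (four_orders pv (by decide +kernel)).1, toG_one]
  have hv1 : v ≠ 1 := fun e => (four_orders pv (by decide +kernel)).2
    (toG_inj h.φ h.inj ev_pv ev_one (e.trans (toG_one h.φ).symm))
  have hordv : orderOf (⟨v, hvT⟩ : (T : Subgroup G)) = 2 := by
    rw [orderOf_mk]; exact orderOf_eq_prime (by rw [pow_two]; exact hv2) hv1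
  have hC4 : Nat.card (centralizer ({(⟨v, hvT⟩ : (T : Subgroup G))} : Set (T : Subgroup G))) = 4 := by
    have e : Subtype.val '' (centralizer ({(⟨v, hvT⟩ : (T : Subgroup G))} : Set (T : Subgroup G)) : Set (T : Subgroup G)) =
        ↑(({1, pu, pv, pu * pv} : Finset Pair).image h.e) := by
      ext x
      constructor
      · rintro ⟨⟨y, hy⟩, hyc, rfl⟩
        have := congrArg Subtype.val (mem_centralizer_singleton_iff.1 hyc)
        obtain ⟨p, hp, he⟩ := hTCV y hy (h.mem_CV.2 ⟨(huc y hy).symm, this⟩)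
        rw [Finset.mem_coe, Finset.mem_image]
        exact ⟨p, hp, he⟩
      · intro hx
        rw [Finset.mem_coe, Finset.mem_image] at hx
        obtain ⟨p, hp, rfl⟩ := hx
        have h1 : ∀ p ∈ ({1, pu, pv, pu * pv} : Finset Pair), p ∈ eight ∧ p * pv = pv * p := by decide +kernel
        refine ⟨⟨h.e p, hmemE p (h1 p hp).1⟩, mem_centralizer_singleton_iff.2 (Subtype.ext ?_), rfl⟩
        exact (toG_commute h.φ (eight_facts.1 p (h1 p hp).1) ev_pv (h1 p hp).2).eq
    have h2 := Set.ncard_image_of_injective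
      (centralizer ({(⟨v, hvT⟩ : (T : Subgroup G))} : Set (T : Subgroup G)) : Set (T : Subgroup G)) Subtype.val_injective
    rw [e, Set.ncard_coe_finset, Finset.card_image_of_injOn] at h2
    · rw [← SetLike.coe_sort_coe, Nat.card_coe_set_eq, ← h2]; decide +kernel
    · intro p hp q hq
      have hev : ∀ p ∈ ({1, pu, pv, pu * pv} : Finset Pair), Ev p := by decide +kernel
      exact toG_inj h.φ h.inj (hev p hp) (hev q hq)
  have hconjv : IsConj u v := by
    obtain ⟨p, hp, hpe⟩ : ∃ p ∈ ({pw, pw * pw} : Finset Pair), p * pu * p⁻¹ = pv := by decide +kernel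
    have hev : Ev p := by
      simp only [Finset.mem_insert, Finset.mem_singleton] at hp
      rcases hp with rfl | rfl
      exacts [ev_pw, ev_mul ev_pw ev_pw]
    exact isConj_iff.2 ⟨h.e p, by rw [hu, hv, Data.e, ← toG_conj h.φ hev ev_pu, hpe]⟩
  have hall : ∀ x ∈ (T : Subgroup G), x * x = 1 → x ≠ 1 → IsConj u x := by
    rcases Cfsg.Agent.S3224.result T.isPGroup' (⟨v, hvT⟩ : (T : Subgroup G)) hordv hC4 with ⟨n, hdih⟩ | hqd | h4
    · by_cases h8 : Nat.card (T : Subgroup G) = 8
      · intro x hx hx2 hx1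
        have : E8 = (T : Subgroup G) := eq_of_le_of_card_ge hT (by rw [hE8c, h8])
        rw [← this] at hx
        obtain ⟨p, hp, rfl⟩ := hx
        have hev := eight_facts.1 p hp
        have hp2 : p * p = 1 := toG_inj h.φ h.inj (ev_mul hev hev) ev_one
          ((toG_mul h.φ hev hev).trans (hx2.trans (toG_one h.φ).symm))
        have hp1 : p ≠ 1 := fun e => hx1 (by rw [e]; exact toG_one h.φ)
        have second : ∀ r : Pair, Ev r → r.1 = 1 → r * r = 1 → r ≠ 1 → IsConj u (h.e r) := by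
          intro r hr r1 r2 rne
          have hsgn : Perm.sign r.2 = 1 := by
            have := hr; rw [Ev, r1, map_one, one_mul] at this; exact this
          obtain ⟨k, hk, hke⟩ := invol_conj_pu r.2 hsgn (congrArg Prod.snd r2)
            (fun e => rne (Prod.ext r1 e))
          have hev' : Ev ((1, k) : Pair) := by rw [Ev, map_one, one_mul]; exact hk
          refine isConj_iff.2 ⟨h.e (1, k), ?_⟩
          rw [hu, Data.e, ← toG_conj h.φ hev' ev_pu]
          exact congrArg _ (Prod.ext (by simp [pu, r1]) hke)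
        rcases eight_link p hp hp2 hp1 with ⟨p1, -⟩ | ⟨k, hk, hkc⟩
        · exact second p hev p1 hp2 hp1
        · have hk' : Ev ((1, k) : Pair) := by rw [Ev, map_one, one_mul]; exact hk
          set kk := h.e (1, k)
          have hc1 : Commute (h.e p) (kk * h.w * kk⁻¹) := by
            rw [show kk * h.w * kk⁻¹ = h.e ((1, k) * pw * (1, k)⁻¹) from (toG_conj h.φ hk' ev_pw).symm]
            exact toG_commute h.φ hev (ev_mul (ev_mul hk' ev_pw) (ev_inv hk')) (Prod.ext (by simp [pw]) hkc)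
          set y := (kk * h.g)⁻¹ * h.e p * (kk * h.g) with hy
          have hyz : Commute y h.z := by
            have hwz : kk * h.w * kk⁻¹ = (kk * h.g) * h.z * (kk * h.g)⁻¹ := by rw [Data.w, Data.e, ← h.gz]; group
            rw [hwz] at hc1
            show _ = _
            calc y * h.z = (kk * h.g)⁻¹ * (h.e p * ((kk * h.g) * h.z * (kk * h.g)⁻¹)) * (kk * h.g) := by
                  rw [hy]; group
              _ = (kk * h.g)⁻¹ * (((kk * h.g) * h.z * (kk * h.g)⁻¹) * h.e p) * (kk * h.g) := by rw [hc1.eq]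
              _ = h.z * y := by rw [hy]; group
          obtain ⟨r, hr, hrz, hre⟩ := h.exists_of_commute_z hyz
          have hy2 : y * y = 1 := by
            calc y * y = (kk * h.g)⁻¹ * (h.e p * h.e p) * (kk * h.g) := by rw [hy]; group
              _ = 1 := by rw [hx2]; group
          have hy1 : y ≠ 1 := fun e => hx1 (by
            calc h.e p = (kk * h.g) * y * (kk * h.g)⁻¹ := by rw [hy]; group
              _ = 1 := by rw [e]; group)
          have hr2 : r * r = 1 := toG_inj h.φ h.inj (ev_mul hr hr) ev_one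
            ((toG_mul h.φ hr hr).trans ((by rw [show toG h.φ r = y from hre]; exact hy2 :
              toG h.φ r * toG h.φ r = 1).trans (toG_one h.φ).symm))
          have hr1 : r ≠ 1 := fun e => hy1 (by rw [← hre, e]; exact toG_one h.φ)
          have := second r hr (fix_c3 r.1 (congrArg Prod.fst hrz) (congrArg Prod.fst hr2)) hr2 hr1
          rw [hre] at this
          exact this.trans (isConj_iff.2 ⟨kk * h.g, by rw [hy]; group⟩)
      · exfalso
        obtain ⟨k, hk⟩ := T.isPGroup'.exists_card_eq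
        have hge : 8 ≤ Nat.card (T : Subgroup G) := hE8c ▸ Nat.le_of_dvd Nat.card_pos (card_dvd_of_le hT)
        have hn2 : 2 ≤ n := by
          obtain ⟨eq⟩ := hdih
          have := Nat.card_congr eq.toEquiv
          rw [DihedralGroup.nat_card] at this
          omega
        have hu2 : orderOf u = 2 := orderOf_eq_prime (by
            rw [pow_two, hu, Data.e, ← toG_mul h.φ ev_pu ev_pu, (four_orders pu (by decide +kernel)).1, toG_one])
          (fun e => (four_orders pu (by decide +kernel)).2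
            (toG_inj h.φ h.inj ev_pu ev_one (e.trans (toG_one h.φ).symm)))
        set C := centralizer ({u} : Set G) with hCdef
        obtain ⟨N, hNn, hNodd, l, hNi⟩ : ∃ N : Subgroup C, N.Normal ∧ Odd (Nat.card N) ∧ ∃ l, N.index = 2 ^ l :=
          Cfsg.Agent.S0514.result T n hn2 hdih u hu2
        haveI := hNn
        haveI := Fact.mk Nat.prime_three
        have hzC : h.z ∈ C := mem_centralizer_singleton_iff.2
          (toG_commute h.φ ev_pz ev_pu (by decide +kernel)).eq
        have hzN : (⟨h.z, hzC⟩ : C) ∈ N := by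
          set xb : C ⧸ N := QuotientGroup.mk' N ⟨h.z, hzC⟩
          have h1 : orderOf xb ∣ 3 := by
            have := orderOf_map_dvd (QuotientGroup.mk' N) (⟨h.z, hzC⟩ : C)
            rwa [orderOf_mk, h.orderOf_z] at this
          have h2 : orderOf xb ∣ 2 ^ l := by
            have := orderOf_dvd_natCard xb
            rwa [← index_eq_card, hNi] at this
          have h3 := Nat.dvd_gcd h1 h2
          rw [Nat.Coprime.gcd_eq_one (Nat.Coprime.pow_right _ (by norm_num))] at h3
          exact (QuotientGroup.eq_one_iff _).1 (orderOf_eq_one_iff.1 (Nat.dvd_one.1 h3))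
        have hfac : (Nat.card N).factorization 3 = 1 := by
          have hne : Nat.card N ≠ 0 := Nat.card_pos.ne'
          have h3 : 3 ^ 1 ∣ Nat.card N := by
            rw [pow_one, ← h.orderOf_z, ← orderOf_mk (G := G) (H := C) h.z hzC]
            exact Subgroup.orderOf_dvd_natCard _ hzN
          have a := (Nat.prime_three.pow_dvd_iff_le_factorization hne).1 h3
          by_contra hb
          have h9 := (Nat.prime_three.pow_dvd_iff_le_factorization (k := 2) hne).2 (by omega)
          refine h.not_nine_dvd (x := u) ?_ ?_ (h9.trans N.card_subgroup_dvd_card)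
          · rw [← pow_two, ← hu2, pow_orderOf_eq_one]
          · intro e; rw [e, orderOf_one] at hu2; norm_num at hu2
        set zN : N := ⟨⟨h.z, hzC⟩, hzN⟩ with hzNdef
        set Q : Sylow 3 N := Sylow.ofCard (zpowers zN)
          (by rw [Nat.card_zpowers, hzNdef, orderOf_mk, orderOf_mk, h.orderOf_z, hfac, pow_one])
        have htop := Sylow.normalizer_sup_eq_top Q
        have hQmap : ((Q : Subgroup N).map N.subtype) = zpowers (⟨h.z, hzC⟩ : C) := by
          show (zpowers zN).map N.subtype = _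
          rw [MonoidHom.map_zpowers]; rfl
        rw [hQmap] at htop
        set M := normalizer (zpowers (⟨h.z, hzC⟩ : C) : Set C) with hM
        have hsurj : Function.Surjective ((QuotientGroup.mk' N).comp M.subtype) := by
          intro q
          obtain ⟨x, rfl⟩ := QuotientGroup.mk'_surjective N q
          obtain ⟨a, ha, b, hb, rfl⟩ := mem_sup_of_normal_right.1 (htop ▸ mem_top x)
          refine ⟨⟨a, ha⟩, ?_⟩
          rw [map_mul, show QuotientGroup.mk' N b = 1 from (QuotientGroup.eq_one_iff _).2 hb, mul_one]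
          rfl
        have hidxM : N.index ∣ Nat.card M := by
          rw [index_eq_card]; exact card_dvd_of_surjective _ hsurj
        have hTC : Nat.card (T : Subgroup G) ∣ Nat.card C :=
          card_dvd_of_le fun x hx => mem_centralizer_singleton_iff.2 (huc x hx).symm.eq
        have hTM : Nat.card (T : Subgroup G) ∣ Nat.card M := by
          refine Nat.dvd_trans ?_ hidxM
          rw [← N.card_mul_index] at hTC
          refine Nat.Coprime.dvd_of_dvd_mul_left ?_ hTC
          rw [hk]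
          exact Nat.Coprime.pow_left k (Nat.coprime_two_left.2 hNodd)
        have h3M : 3 ∣ Nat.card M := by
          have : orderOf (⟨h.z, hzC⟩ : C) = 3 := by rw [orderOf_mk, h.orderOf_z]
          rw [← this]
          exact Subgroup.orderOf_dvd_natCard _ (le_normalizer (mem_zpowers _))
        have hM24 : Nat.card M ≤ 24 := by
          refine le_trans ?_ count_normalizer_pu
          rw [← Set.ncard_coe_finset, ← SetLike.coe_sort_coe, Nat.card_coe_set_eq]
          have hch : ∀ a ∈ (M : Set C), ∃ p, (Ev p ∧ p * pu = pu * p) ∧ h.e p = (a : G) := by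
            intro a ha
            obtain ⟨j, hj⟩ := mem_zpowers_iff.1 ((mem_normalizer_iff.1 ha ⟨h.z, hzC⟩).1 (mem_zpowers _))
            have hj' : h.z ^ j = (a : G) * h.z * (a : G)⁻¹ := congrArg Subtype.val hj
            have hn' : (a : G) * h.z * (a : G)⁻¹ = h.z ∨ (a : G) * h.z * (a : G)⁻¹ = h.z⁻¹ := by
              rw [← hj', ← zpow_mod_orderOf, h.orderOf_z]
              have h0 := Int.emod_nonneg j (show ((3 : ℕ) : ℤ) ≠ 0 by norm_num)
              have h3 := Int.emod_lt_of_pos j (show (0 : ℤ) < ((3 : ℕ) : ℤ) by norm_num)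
              obtain e | e | e : j % ((3 : ℕ) : ℤ) = 0 ∨ j % ((3 : ℕ) : ℤ) = 1 ∨ j % ((3 : ℕ) : ℤ) = 2 := by omega
              · exfalso
                rw [← zpow_mod_orderOf, h.orderOf_z, e, zpow_zero] at hj'
                exact h.z_ne_one (conj_eq_one_iff.1 hj'.symm)
              · exact Or.inl (by rw [e, zpow_one])
              · refine Or.inr ?_
                rw [e, show (2 : ℤ) = ((2 : ℕ) : ℤ) from rfl, zpow_natCast, pow_two]
                exact eq_inv_of_mul_eq_one_left h.z_pow_three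
            obtain ⟨p, hp, he⟩ := h.exists_of_normalizes hn'
            refine ⟨p, ⟨hp, toG_inj h.φ h.inj (ev_mul hp ev_pu) (ev_mul ev_pu hp) ?_⟩, he⟩
            rw [toG_mul h.φ hp ev_pu, toG_mul h.φ ev_pu hp, show toG h.φ p = (a : G) from he]
            exact mem_centralizer_singleton_iff.1 a.2
          choose! f hf hfe using hch
          refine Set.ncard_le_ncard_of_injOn f (fun a ha => ?_) ?_ (Finset.finite_toSet _)
          · simpa using hf a ha
          · intro a ha b hb he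
            apply Subtype.ext
            rw [← hfe a ha, ← hfe b hb, he]
        rw [hk] at hTM hge h8
        have hdiv : 2 ^ k * 3 ∣ Nat.card M :=
          Nat.Coprime.mul_dvd_of_dvd_of_dvd (Nat.Coprime.pow_left _ (by norm_num)) hTM h3M
        have := Nat.le_of_dvd Nat.card_pos hdiv
        have : 2 ^ k ≤ 8 := by omega
        omega
    · intro x hx hx2 hx1
      obtain ⟨h2, -⟩ := Cfsg.Agent.S1189.result hqd
      set cl : {t : (T : Subgroup G) // orderOf t = 2} →
          {C : ConjClasses (T : Subgroup G) // ∃ t, orderOf t = 2 ∧ ConjClasses.mk t = C} :=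
        fun t => ⟨ConjClasses.mk t.1, t.1, t.2, rfl⟩
      have hu2 : orderOf (⟨u, huT⟩ : (T : Subgroup G)) = 2 := by
        rw [orderOf_mk]
        refine orderOf_eq_prime ?_ fun e => (four_orders pu (by decide +kernel)).2
          (toG_inj h.φ h.inj ev_pu ev_one (e.trans (toG_one h.φ).symm))
        rw [pow_two, hu, Data.e, ← toG_mul h.φ ev_pu ev_pu, (four_orders pu (by decide +kernel)).1, toG_one]
      have hxo : orderOf (⟨x, hx⟩ : (T : Subgroup G)) = 2 := by
        rw [orderOf_mk]; exact orderOf_eq_prime (by rw [pow_two]; exact hx2) hx1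
      have hdist : cl ⟨_, hu2⟩ ≠ cl ⟨_, hordv⟩ := by
        intro e
        obtain ⟨c', hc'⟩ := isConj_iff.1 (ConjClasses.mk_eq_mk_iff_isConj.1 (congrArg Subtype.val e))
        have h' : (c' : G) * u * (c' : G)⁻¹ = v := congrArg Subtype.val hc'
        rw [(huc c' c'.2).symm.eq, mul_inv_cancel_right] at h'
        have : pu ≠ pv := by decide +kernel
        exact this (toG_inj h.φ h.inj ev_pu ev_pv h')
      obtain ⟨a, b, -, hab⟩ := Nat.card_eq_two_iff.1 h2
      have hmem : ∀ q, q = a ∨ q = b := fun q => by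
        have : q ∈ ({a, b} : Set _) := hab.symm ▸ Set.mem_univ q
        simpa using this
      have hcase : cl ⟨_, hxo⟩ = cl ⟨_, hu2⟩ ∨ cl ⟨_, hxo⟩ = cl ⟨_, hordv⟩ := by
        rcases hmem (cl ⟨_, hxo⟩) with e1 | e1 <;> rcases hmem (cl ⟨_, hu2⟩) with e2 | e2 <;>
          rcases hmem (cl ⟨_, hordv⟩) with e3 | e3 <;>
          first
            | exact Or.inl (e1.trans e2.symm)
            | exact Or.inr (e1.trans e3.symm)
            | exact absurd (e2.trans e3.symm) hdist
      rcases hcase with e | e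
      · obtain ⟨c', hc'⟩ := isConj_iff.1 (ConjClasses.mk_eq_mk_iff_isConj.1 (congrArg Subtype.val e))
        exact (isConj_iff.2 ⟨(c' : G), congrArg Subtype.val hc'⟩ : IsConj x u).symm
      · obtain ⟨c', hc'⟩ := isConj_iff.1 (ConjClasses.mk_eq_mk_iff_isConj.1 (congrArg Subtype.val e))
        exact hconjv.trans (isConj_iff.2 ⟨(c' : G), congrArg Subtype.val hc'⟩ : IsConj x v).symm
    · exfalso
      have := Nat.le_of_dvd Nat.card_pos (card_dvd_of_le hT)
      omega
  obtain ⟨t1, ht2, ht1, htm⟩ := h.exists_involution_mixed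
  obtain ⟨S, hS⟩ := (IsPGroup.of_card (p := 2) (n := 1) (show Nat.card (zpowers t1) = 2 ^ 1 by
    rw [Nat.card_zpowers, pow_one]
    exact orderOf_eq_prime (by rw [pow_two]; exact ht2) ht1)).exists_le_sylow
  obtain ⟨k, hk⟩ := MulAction.exists_smul_eq G S T
  have hmem : k * t1 * k⁻¹ ∈ (T : Subgroup G) := by
    rw [← hk]
    exact smul_mem_pointwise_smul _ (MulAut.conj k) _ (hS (mem_zpowers t1))
  obtain ⟨r, hr⟩ := isConj_iff.1 (hall _ hmem
    (by rw [show k * t1 * k⁻¹ * (k * t1 * k⁻¹) = k * (t1 * t1) * k⁻¹ by group, ht2, mul_one, mul_inv_cancel])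
    (fun e => ht1 (conj_eq_one_iff.1 e)))
  refine h.not_conj_mixed (x := u) ?_ ?_ (toG_commute h.φ ev_pu ev_pz (by decide +kernel)) (k⁻¹ * r) ?_
  · rw [hu, Data.e, ← toG_mul h.φ ev_pu ev_pu, (four_orders pu (by decide +kernel)).1, toG_one]
  · exact fun e => (four_orders pu (by decide +kernel)).2
      (toG_inj h.φ h.inj ev_pu ev_one (e.trans (toG_one h.φ).symm))
  · rwa [show k⁻¹ * r * u * (k⁻¹ * r)⁻¹ = k⁻¹ * (r * u * r⁻¹) * k by group, hr,
      show k⁻¹ * (k * t1 * k⁻¹) * k = t1 by group]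

end Data

end CfsgLib.Recog.EightThree
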