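import Cfsg.Agent.Lib.Recog.EightThree.Setup

/-!
Owner: helper10. From the hypotheses of the 3-local characterisation to the normalised data.
-/

set_option autoImplicit false
set_option linter.all false

namespace CfsgLib.Recog.EightThree

open Subgroup Equiv
open scoped Pointwise

universe u

variable {G : Type u} [Group G] [Finite G]

theorem exists_data (P : Sylow 3 G) (D : Subgroup G) (hDP : D = P) (y z : G)
    (hgen : closure {y, z} = D) (hcard : Nat.card D = 9) (hexp : ∀ a ∈ D, a ^ 3 = 1)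
    (hN : Nat.card (normalizer (D : Set G)) = 72)
    (hycard : Nat.card (centralizer ({y} : Set G)) = 18)
    (eL : normalizer (zpowers z : Set G) ≃* L0) : Nonempty (Data G) := by
  classical
  haveI := Fact.mk Nat.prime_three
  have hyD : y ∈ D := hgen ▸ subset_closure (Or.inl rfl)
  have hzD : z ∈ D := hgen ▸ subset_closure (Or.inr rfl)
  have hzone : z ≠ 1 := by
    intro e
    have hle : D ≤ zpowers y := by
      rw [← hgen, closure_le]
      rintro a (rfl | rfl)
      · exact mem_zpowers _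
      · rw [e]; exact one_mem _
    have h1 := Nat.le_of_dvd Nat.card_pos (card_dvd_of_le hle)
    have h2 := Nat.le_of_dvd (by norm_num) (orderOf_dvd_of_pow_eq_one (hexp y hyD))
    rw [Nat.card_zpowers, hcard] at h1
    omega
  set N := normalizer (zpowers z : Set G) with hNdef
  have hzN : z ∈ N := le_normalizer (mem_zpowers z)
  set φ : L0 →* G := N.subtype.comp eL.symm.toMonoidHom with hφdef
  have hφ : Function.Injective φ := N.subtype_injective.comp eL.symm.injective
  have hφr : φ.range = N := by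
    ext x
    constructor
    · rintro ⟨p, rfl⟩; exact (eL.symm p).2
    · intro hx; exact ⟨eL ⟨x, hx⟩, by simp [hφdef]⟩
  set p : L0 := eL ⟨z, hzN⟩ with hp
  have hφp : φ p = z := by simp [hφdef, hp]
  have hEp : Ev (p : Pair) := ev_iff.1 p.2
  have hp3 : (p : Pair) * p * p = 1 := by
    have : p ^ 3 = 1 := hφ (by rw [map_pow, hφp, map_one]; exact hexp z hzD)
    rw [pow_succ, pow_two] at this
    exact congrArg Subtype.val this
  have hp1 : (p : Pair) ≠ 1 := fun e => hzone (by rw [← hφp, show p = 1 from Subtype.ext e, map_one])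
  have hnorm : ∀ q : L0, q * p * q⁻¹ = p ∨ q * p * q⁻¹ = p * p := by
    intro q
    have hq : φ q ∈ N := hφr ▸ ⟨q, rfl⟩
    obtain ⟨k, hk⟩ := mem_zpowers_iff.1 ((mem_normalizer_iff.1 hq z).1 (mem_zpowers z))
    have hk' : q * p * q⁻¹ = p ^ k := hφ (by rw [map_mul, map_mul, map_inv, map_zpow, hφp, hk])
    have ho : orderOf p = 3 :=
      orderOf_eq_prime (Subtype.ext (by rw [SubmonoidClass.coe_pow, pow_succ, pow_two]; exact hp3))
        fun e => hp1 (congrArg Subtype.val e)
    rw [hk', ← zpow_mod_orderOf, ho]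
    have h0 := Int.emod_nonneg k (show ((3 : ℕ) : ℤ) ≠ 0 by norm_num)
    have h3 := Int.emod_lt_of_pos k (show (0 : ℤ) < ((3 : ℕ) : ℤ) by norm_num)
    obtain e | e | e : k % ((3 : ℕ) : ℤ) = 0 ∨ k % ((3 : ℕ) : ℤ) = 1 ∨ k % ((3 : ℕ) : ℤ) = 2 := by omega
    · exfalso
      have h0' : p ^ k = 1 := by rw [← zpow_mod_orderOf, ho, e, zpow_zero]
      rw [h0'] at hk'
      exact hp1 (congrArg Subtype.val (conj_eq_one_iff.1 hk'))
    · exact Or.inl (by rw [e, zpow_one])
    · exact Or.inr (by rw [e, show (2 : ℤ) = ((2 : ℕ) : ℤ) from rfl, zpow_natCast, pow_two])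
  have hzl : (p : Pair) ∈ zline := normal_three _ hp3 hp1 fun q hq => by
    rcases hnorm ⟨q, ev_iff.2 (ev_normal_three_gens q hq)⟩ with e | e
    · exact Or.inl (congrArg Subtype.val e)
    · exact Or.inr (congrArg Subtype.val e)
  set e := toG φ with hedef
  have hez : z = e pz ∨ z = (e pz)⁻¹ := by
    have hzp : z = e (p : Pair) := by rw [hedef, toG_apply φ hEp]; exact hφp.symm
    rcases zline_wline_link.1 _ hzl with h | h
    · exact Or.inl (by rw [hzp, h])
    · exact Or.inr (by rw [hzp, h, hedef, toG_inv φ ev_pz])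
  have hzz : zpowers z = zpowers (e pz) := by
    rcases hez with h | h
    · rw [h]
    · rw [h, zpowers_inv]
  have hnorm' : normalizer (zpowers (e pz) : Set G) = φ.range := by rw [← hzz, hφr]
  have not27 : ¬ 27 ∣ Nat.card G := by
    intro h27
    have hf := (Nat.prime_three.pow_dvd_iff_le_factorization (k := 3) Nat.card_pos.ne').1 h27
    have hPc := P.card_eq_multiplicity
    rw [← hDP, hcard, show (9 : ℕ) = 3 ^ 2 from rfl] at hPc
    have := Nat.pow_right_injective (le_refl 2 |>.trans (by norm_num)) hPc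
    omega
  -- the Sylow 3-subgroup `⟨pz, pw⟩`
  set D1 : Subgroup G :=
    { carrier := {x | ∃ q ∈ nine, e q = x}
      one_mem' := ⟨1, by decide +kernel, toG_one φ⟩
      mul_mem' := by
        rintro _ _ ⟨q, hq, rfl⟩ ⟨r, hr, rfl⟩
        exact ⟨q * r, (nine_mul q hq r hr).1, toG_mul φ (ev_nine q hq) (ev_nine r hr)⟩
      inv_mem' := by
        rintro _ ⟨q, hq, rfl⟩
        refine ⟨q⁻¹, ?_, toG_inv φ (ev_nine q hq)⟩
        have : ∀ q ∈ nine, q⁻¹ ∈ nine := by decide +kernel
        exact this q hq } with hD1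
  have hD1mem : ∀ x, x ∈ D1 ↔ ∃ q ∈ nine, e q = x := fun x => Iff.rfl
  have hD1c : Nat.card D1 = 9 := by
    have h1 : (D1 : Set G) = ↑(nine.image e) := by ext x; simp [hD1]
    rw [← SetLike.coe_sort_coe, h1, Nat.card_coe_set_eq, Set.ncard_coe_finset,
      Finset.card_image_of_injOn fun a ha b hb => toG_inj φ hφ (ev_nine a ha) (ev_nine b hb), nine_card]
  have hfac : (Nat.card G).factorization 3 = 2 := by
    have hPc := P.card_eq_multiplicity
    rw [← hDP, hcard, show (9 : ℕ) = 3 ^ 2 from rfl] at hPc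
    exact (Nat.pow_right_injective (le_refl 2 |>.trans (by norm_num)) hPc).symm
  obtain ⟨k, hk⟩ := MulAction.exists_smul_eq G P (Sylow.ofCard D1 (by rw [hD1c, hfac]; rfl))
  have hkD : MulAut.conj k • D = D1 := by rw [hDP]; exact congrArg Sylow.toSubgroup hk
  have hN1 : Nat.card (normalizer (D1 : Set G)) = 72 := by
    rw [← hkD, ← hN]
    have e1 : normalizer ((MulAut.conj k • D : Subgroup G) : Set G) =
        (normalizer (D : Set G)).map (MulAut.conj k).toMonoidHom := by
      rw [show (MulAut.conj k • D : Subgroup G) = D.map (MulAut.conj k).toMonoidHom from rfl]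
      exact (map_normalizer_eq_of_bijective (H := D) (f := (MulAut.conj k).toMonoidHom)
        (MulAut.conj k).bijective).symm
    rw [e1]
    exact Nat.card_congr ((normalizer (D : Set G)).equivMapOfInjective _ (MulAut.conj k).injective).symm.toEquiv
  set y1 := k * y * k⁻¹ with hy1
  have hy1D : y1 ∈ D1 := by
    rw [← hkD, hy1, show k * y * k⁻¹ = MulAut.conj k • y from rfl]
    exact smul_mem_pointwise_smul _ _ _ hyD
  obtain ⟨q1, hq1, hq1e⟩ := (hD1mem _).1 hy1D
  have hy18 : Nat.card (centralizer ({e q1} : Set G)) = 18 := by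
    rw [hq1e, hy1, card_centralizer_conj, hycard]
  set cc : Pair → ℕ := fun q => Nat.card (centralizer ({e q} : Set G)) with hcc
  have h180 : 180 ≤ cc pz := by
    rw [← count_centralizer, ← Set.ncard_coe_finset, hcc]
    simp only
    rw [← SetLike.coe_sort_coe, Nat.card_coe_set_eq]
    refine Set.ncard_le_ncard_of_injOn e ?_ ?_ (Set.toFinite _)
    · intro q hq
      simp only [Finset.coe_filter, Finset.mem_univ, true_and, Set.mem_setOf_eq] at hq
      exact mem_centralizer_singleton_iff.2 (toG_commute φ hq.1 ev_pz hq.2).eq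
    · intro q hq r hr he
      simp only [Finset.coe_filter, Finset.mem_univ, true_and, Set.mem_setOf_eq] at hq hr
      exact toG_inj φ hφ hq.1 hr.1 he
  have hinv : ∀ q, Ev q → cc q⁻¹ = cc q := fun q hq => by
    simp only [hcc, hedef]; rw [toG_inv φ hq, card_centralizer_inv]
  have hconj : ∀ q r, Ev q → Ev r → cc (q * r * q⁻¹) = cc r := fun q r hq hr => by
    simp only [hcc, hedef]; rw [toG_conj φ hq hr, card_centralizer_conj]
  have hmix : ∀ q ∈ mixed, cc q = cc pm := by
    intro q hq
    rcases mixed_link q hq with rfl | rfl | rfl | rfl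
    · rfl
    · exact hconj _ _ ev_pf ev_pm
    · exact hinv _ ev_pm
    · exact (hinv _ (ev_mul (ev_mul ev_pf ev_pm) (ev_inv ev_pf))).trans (hconj _ _ ev_pf ev_pm)
  have hzline : ∀ q ∈ zline, cc q = cc pz := fun q hq => by
    rcases zline_wline_link.1 q hq with rfl | rfl
    exacts [rfl, hinv _ ev_pz]
  have hwline : ∀ q ∈ wline, cc q = cc pw := fun q hq => by
    rcases zline_wline_link.2.1 q hq with rfl | rfl
    exacts [rfl, hinv _ ev_pw]
  have hone : 180 ≤ cc 1 := by
    refine h180.trans ?_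
    simp only [hcc, hedef, toG_one]
    exact Nat.le_of_dvd Nat.card_pos (card_dvd_of_le fun x _ => mem_centralizer_singleton_iff.2 (by simp))
  have hy1cases : cc pm = 18 ∨ cc pw = 18 := by
    rcases nine_cases q1 hq1 with rfl | h | h | h
    · exact absurd (hy18 ▸ hone : 180 ≤ 18) (by norm_num)
    · have := hzline q1 h; simp only [hcc] at this; rw [hy18] at this
      exact absurd (this ▸ h180 : 180 ≤ 18) (by norm_num)
    · exact Or.inr ((hwline q1 h).symm.trans hy18)
    · exact Or.inl ((hmix q1 h).symm.trans hy18)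
  -- the stabiliser of `⟨pz⟩`
  set N1 := normalizer (D1 : Set G) with hN1def
  set Sset : Finset G := ((Finset.univ.filter NormNine).image e) with hS
  have hnormD1 : ∀ q, NormNine q → e q ∈ N1 := by
    intro q hq
    rw [hN1def, mem_normalizer_iff]
    have hgen : ∀ r ∈ nine, q * r * q⁻¹ ∈ nine := by
      intro r hr
      have hmz := hq.2.1
      have hmw := hq.2.2
      rcases nine_gens r hr with rfl | rfl | rfl | rfl | rfl | rfl | rfl | rfl | rfl
      · rw [mul_one, mul_inv_cancel]; decide +kernel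
      · exact hmz
      · rw [← conj_mul]; exact (nine_mul _ hmz _ hmz).1
      · exact hmw
      · rw [← conj_mul]; exact (nine_mul _ hmw _ hmw).1
      · rw [← conj_mul]; exact (nine_mul _ hmz _ hmw).1
      · rw [← conj_mul, ← conj_mul]; exact (nine_mul _ (nine_mul _ hmz _ hmz).1 _ hmw).1
      · rw [← conj_mul, ← conj_mul]; exact (nine_mul _ hmz _ (nine_mul _ hmw _ hmw).1).1
      · rw [← conj_mul, ← conj_mul, ← conj_mul]
        exact (nine_mul _ (nine_mul _ hmz _ hmz).1 _ (nine_mul _ hmw _ hmw).1).1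
    have hsurj : ∀ r ∈ nine, ∃ r' ∈ nine, q * r' * q⁻¹ = r := by
      intro r hr
      have himg : nine.image (fun r => q * r * q⁻¹) = nine :=
        Finset.eq_of_subset_of_card_le (fun a ha => by
          obtain ⟨b, hb, rfl⟩ := Finset.mem_image.1 ha
          exact hgen b hb)
          (by rw [Finset.card_image_of_injective _ fun a b hab => by simpa using hab])
      rw [← himg] at hr
      obtain ⟨b, hb, hb'⟩ := Finset.mem_image.1 hr
      exact ⟨b, hb, hb'⟩
    intro x
    constructor
    · rintro ⟨r, hr, rfl⟩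
      exact ⟨q * r * q⁻¹, hgen r hr, toG_conj φ hq.1 (ev_nine r hr)⟩
    · rintro ⟨r, hr, he⟩
      obtain ⟨r', hr', rfl⟩ := hsurj r hr
      refine ⟨r', hr', ?_⟩
      rw [hedef, toG_conj φ hq.1 (ev_nine r' hr'), mul_left_inj, mul_right_inj] at he
      exact he
  set St : Subgroup G := N1 ⊓ φ.range with hSt
  have hStset : (St : Set G) = ↑Sset := by
    ext x
    constructor
    · rintro ⟨hx1, hx2⟩
      obtain ⟨q, hq, rfl⟩ := exists_toG φ hx2
      rw [hS, Finset.mem_coe, Finset.mem_image]
      refine ⟨q, Finset.mem_filter.2 ⟨Finset.mem_univ _, hq, ?_⟩, rfl⟩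
      have key : ∀ r ∈ nine, q * r * q⁻¹ ∈ nine := by
        intro r hr
        obtain ⟨r', hr', he⟩ := (mem_normalizer_iff.1 hx1 (e r)).1 ⟨r, hr, rfl⟩
        rw [hedef, ← toG_conj φ hq (ev_nine r hr)] at he
        rw [← toG_inj φ hφ (ev_nine r' hr') (ev_mul (ev_mul hq (ev_nine r hr)) (ev_inv hq)) he]
        exact hr'
      exact ⟨key pz (by decide +kernel), key pw (by decide +kernel)⟩
    · intro hx
      rw [hS, Finset.mem_coe, Finset.mem_image] at hx
      obtain ⟨q, hq, rfl⟩ := hx
      rw [Finset.mem_filter] at hq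
      exact ⟨hnormD1 q hq.2, toG_mem_range φ hq.2.1⟩
  have hStc : Nat.card St = 36 := by
    rw [← SetLike.coe_sort_coe, hStset, Nat.card_coe_set_eq, Set.ncard_coe_finset, hS,
      Finset.card_image_of_injOn fun a ha b hb => toG_inj φ hφ (Finset.mem_filter.1 ha).2.1
        (Finset.mem_filter.1 hb).2.1, count_normNine]
  obtain ⟨g, hgN, hgS⟩ : ∃ g ∈ N1, g ∉ φ.range := by
    by_contra hc
    push Not at hc
    have : N1 ≤ St := fun x hx => ⟨hx, hc x hx⟩
    have := Nat.le_of_dvd Nat.card_pos (card_dvd_of_le this)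
    omega
  have hconjD1 : ∀ r ∈ nine, ∃ r' ∈ nine, e r' = g * e r * g⁻¹ := fun r hr =>
    (mem_normalizer_iff.1 hgN (e r)).1 ⟨r, hr, rfl⟩
  have hcg : ∀ r r', e r' = g * e r * g⁻¹ → cc r' = cc r := fun r r' he => by
    simp only [hcc]; rw [he, card_centralizer_conj]
  obtain ⟨a, ha, hae⟩ := hconjD1 pz (by decide +kernel)
  have ha180 : 180 ≤ cc a := by rw [hcg _ _ hae]; exact h180
  have hez1 : e pz ≠ 1 := by
    intro he
    exact absurd (toG_inj φ hφ ev_pz ev_one (he.trans (toG_one φ).symm)) (by decide +kernel)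
  have hanz : a ∉ zline := by
    intro hz'
    refine hgS ?_
    rw [← hnorm', mem_normalizer_iff]
    have hpow : ∀ x, x ∈ zpowers (e pz) → g * x * g⁻¹ ∈ zpowers (e pz) := by
      intro x hx
      obtain ⟨i, rfl⟩ := mem_zpowers_iff.1 hx
      rw [← conj_zpow, ← hae]
      refine zpow_mem ?_ _
      rcases zline_wline_link.1 a hz' with rfl | rfl
      · exact mem_zpowers _
      · rw [hedef, toG_inv φ ev_pz]; exact inv_mem (mem_zpowers _)
    intro x
    refine ⟨hpow x, fun hx => ?_⟩
    have hmap : (zpowers (e pz)).map (MulAut.conj g).toMonoidHom = zpowers (e pz) := by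
      refine eq_of_le_of_card_ge ?_ ?_
      · rintro _ ⟨x, hx, rfl⟩; exact hpow x hx
      · rw [card_map_of_injective (MulAut.conj g).injective]
    rw [← hmap] at hx
    obtain ⟨x', hx', he⟩ := hx
    simp only [MulEquiv.coe_toMonoidHom, MulAut.conj_apply, mul_left_inj, mul_right_inj] at he
    exact he ▸ hx'
  have ha1 : a ≠ 1 := by
    intro e1; rw [e1, hedef, toG_one] at hae; exact hez1 (conj_eq_one_iff.1 hae.symm)
  obtain ⟨b, hb, hbe⟩ := hconjD1 pw (by decide +kernel)
  have hb1 : b ≠ 1 := by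
    intro e1; rw [e1, hedef, toG_one] at hbe
    exact absurd (toG_inj φ hφ ev_pw ev_one ((conj_eq_one_iff.1 hbe.symm).trans (toG_one φ).symm)) (by decide +kernel)
  -- only the pure case survives
  have hpm : cc pm = 18 := by
    rcases hy1cases with h | h
    · exact h
    exfalso
    have ham : a ∈ mixed := by
      rcases nine_cases a ha with r | r | r | r
      · exact absurd r ha1
      · exact absurd r hanz
      · have h1 := hwline a r; rw [h] at h1; omega
      · exact r
    have hidx : (St.subgroupOf N1).index = 2 := by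
      have := (St.subgroupOf N1).card_mul_index
      rw [Nat.card_congr (subgroupOfEquivOfLe (inf_le_left : St ≤ N1)).toEquiv, hStc, hN1] at this
      omega
    haveI := normal_of_index_eq_two hidx
    have hpfSt : e pf ∈ St := by
      rw [← SetLike.mem_coe, hStset, hS, Finset.mem_coe, Finset.mem_image]
      exact ⟨pf, Finset.mem_filter.2 ⟨Finset.mem_univ _, normNine_pf⟩, rfl⟩
    have hmem : g⁻¹ * e pf * g ∈ St := by
      have := Subgroup.Normal.conj_mem this (⟨e pf, hpfSt.1⟩ : N1) (mem_subgroupOf.2 hpfSt) (⟨g, hgN⟩ : N1)⁻¹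
      simpa [mem_subgroupOf, mul_assoc] using this
    obtain ⟨q, hq, hqe⟩ := exists_toG φ hmem.2
    have h1 : e pf * e a * (e pf)⁻¹ = g * (e q * e pz * (e q)⁻¹) * g⁻¹ := by
      rw [hedef] at hqe hae ⊢
      rw [hae, hqe]; group
    have hpa : Ev (pf * a * pf⁻¹) := ev_mul (ev_mul ev_pf (ev_nine a ha)) (ev_inv ev_pf)
    rw [hedef, ← toG_conj φ ev_pf (ev_nine a ha), ← toG_conj φ hq ev_pz] at h1
    rcases normNine_pz q hq with r | r <;> rw [r] at h1
    · rw [← hedef, ← hae, hedef] at h1
      exact (pf_moves a ham).1 (toG_inj φ hφ hpa (ev_nine a ha) h1)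
    · rw [toG_mul φ ev_pz ev_pz, ← conj_mul, ← hedef, ← hae, hedef, ← toG_mul φ (ev_nine a ha) (ev_nine a ha)] at h1
      exact (pf_moves a ham).2 (toG_inj φ hφ hpa (ev_mul (ev_nine a ha) (ev_nine a ha)) h1)
  have haw : a ∈ wline := by
    rcases nine_cases a ha with r | r | r | r
    · exact absurd r ha1
    · exact absurd r hanz
    · exact r
    · have h1 := hmix a r; rw [hpm] at h1; omega
  have hbz : b ∈ zline := by
    rcases nine_cases b hb with r | r | r | r
    · exact absurd r hb1
    · exact r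
    · exfalso
      have heq : b = a ∨ b = a⁻¹ := by
        rcases zline_wline_link.2.1 a haw with rfl | rfl <;> rcases zline_wline_link.2.1 b r with rfl | rfl <;> simp
      rcases heq with rfl | rfl
      · exact absurd (toG_inj φ hφ ev_pw ev_pz (mul_left_cancel (mul_right_cancel (hbe.symm.trans hae))))
          (by decide +kernel)
      · rw [hedef, toG_inv φ (ev_nine a ha), ← hedef, hae] at hbe
        have h2 : e pz = (e pw)⁻¹ := by
          calc e pz = g⁻¹ * (g * e pz * g⁻¹) * g := by group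
            _ = g⁻¹ * ((g * e pz * g⁻¹)⁻¹)⁻¹ * g := by rw [inv_inv]
            _ = g⁻¹ * (g * e pw * g⁻¹)⁻¹ * g := by rw [hbe]
            _ = (e pw)⁻¹ := by group
        rw [hedef, ← toG_inv φ ev_pw] at h2
        exact absurd (toG_inj φ hφ ev_pz (ev_inv ev_pw) h2) (by decide +kernel)
    · exfalso
      have h1 : cc b = 18 := (hmix b r).trans hpm
      rw [hcg _ _ hbe] at h1
      have h2 : cc a = cc pw := hwline a haw
      omega
  -- normalise `g`
  obtain ⟨-, -, f1, f2, b1, b2⟩ := zline_wline_link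
  obtain ⟨g', hg1, hg2⟩ : ∃ g', g' * e pz * g'⁻¹ = e pw ∧
      (g' * e pw * g'⁻¹ = e pz ∨ g' * e pw * g'⁻¹ = (e pz)⁻¹) := by
    have hb' : g * e pw * g⁻¹ = e pz ∨ g * e pw * g⁻¹ = (e pz)⁻¹ := by
      rcases zline_wline_link.1 b hbz with rfl | rfl
      · exact Or.inl hbe.symm
      · exact Or.inr (by rw [← hbe, hedef, toG_inv φ ev_pz])
    rcases zline_wline_link.2.1 a haw with rfl | rfl
    · exact ⟨g, hae.symm, hb'⟩
    · refine ⟨e pb * g, ?_, ?_⟩
      · rw [show e pb * g * e pz * (e pb * g)⁻¹ = e pb * (g * e pz * g⁻¹) * (e pb)⁻¹ by group, ← hae, hedef,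
          ← toG_conj φ ev_pb (ev_inv ev_pw), ← conj_inv, b2, inv_inv]
      · rw [show e pb * g * e pw * (e pb * g)⁻¹ = e pb * (g * e pw * g⁻¹) * (e pb)⁻¹ by group]
        rcases hb' with r | r <;> rw [r, hedef]
        · exact Or.inr (by rw [← toG_conj φ ev_pb ev_pz, b1, toG_inv φ ev_pz])
        · exact Or.inl (by rw [← conj_inv, ← toG_conj φ ev_pb ev_pz, b1, toG_inv φ ev_pz, inv_inv])
  rcases hg2 with hg2 | hg2
  · exact ⟨⟨φ, hφ, hnorm', g', hg1, hg2, not27, hpm⟩⟩
  · refine ⟨⟨φ, hφ, hnorm', g' * e pf, ?_, ?_, not27, hpm⟩⟩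
    · rw [show toG φ pz = e pz from rfl,
        show g' * e pf * e pz * (g' * e pf)⁻¹ = g' * (e pf * e pz * (e pf)⁻¹) * g'⁻¹ by group, hedef,
        ← toG_conj φ ev_pf ev_pz, f1]
      exact hg1
    · rw [show toG φ pw = e pw from rfl,
        show g' * e pf * e pw * (g' * e pf)⁻¹ = g' * (e pf * e pw * (e pf)⁻¹) * g'⁻¹ by group, hedef,
        ← toG_conj φ ev_pf ev_pw, f2, toG_inv φ ev_pw, ← conj_inv, ← hedef, hg2, inv_inv]

end CfsgLib.Recog.EightThree
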